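import Mathlib
import Cfsg.Agent.Lib.Tw2E6Fi22.TabC

/-!
# The commutant of the generators `b, …, i` in the `78`-dimensional module consists of scalars
-/

set_option autoImplicit false
set_option linter.unusedSectionVars false
set_option linter.unusedVariables false
set_option linter.unusedSimpArgs false
set_option maxRecDepth 100000

namespace Cfsg.Agent.Lib.Tw2E6Fi22

open Matrix

variable {K : Type*} [Field K] (ι : ZMod 2 →+* K)

local notation "ιM" => ι.mapMatrix

theorem ι_two {K : Type*} [Field K] (ι : ZMod 2 →+* K) : (2 : K) = 0 := by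
  have h : (1 : K) + 1 = ι ((1 : ZMod 2) + 1) := by rw [map_add, map_one]
  have h2 : (1 : ZMod 2) + 1 = 0 := rfl
  rw [h2, map_zero] at h
  rw [← one_add_one_eq_two, h]

section

variable (D : Matrix (Fin 78) (Fin 78) K)

/-- The matrices over `𝔽₂` whose image commutes with `D`. -/
def Cm (T : Matrix (Fin 78) (Fin 78) (ZMod 2)) : Prop := D * ιM T = ιM T * D

theorem Cm_one : Cm ι D 1 := by
  unfold Cm
  rw [map_one, mul_one, one_mul]

theorem Cm_mul {A B : Matrix (Fin 78) (Fin 78) (ZMod 2)} (hA : Cm ι D A) (hB : Cm ι D B) : Cm ι D (A * B) := by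
  unfold Cm at *
  rw [map_mul, ← mul_assoc, hA, mul_assoc, hB, mul_assoc]

theorem Cm_add {A B : Matrix (Fin 78) (Fin 78) (ZMod 2)} (hA : Cm ι D A) (hB : Cm ι D B) : Cm ι D (A + B) := by
  unfold Cm at *
  rw [map_add, mul_add, add_mul, hA, hB]

theorem Cm_prod {w : List ℕ} {Ms' : ℕ → Matrix (Fin 78) (Fin 78) (ZMod 2)} (h : ∀ x ∈ w, Cm ι D (Ms' x)) :
    Cm ι D (w.map Ms').prod := by
  induction w with
  | nil => exact Cm_one ι D
  | cons x w ih =>
    rw [List.map_cons, List.prod_cons]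
    exact Cm_mul ι D (h x List.mem_cons_self) (ih (fun y hy => h y (List.mem_cons_of_mem x hy)))

end

theorem toB_evB {w : List ℕ} : toB (evB Ms w idB) = (w.map fun i => toB (Ms i)).prod := by
  rw [evB_spec hMV, toB_idB, one_mul]

/-- Row-wise form of the product. -/
theorem row_mul {n : Type*} [Fintype n] {R : Type*} [CommRing R] (A B : Matrix n n R) (i : n) :
    (A * B) i = A i ᵥ* B := by
  ext j
  simp [Matrix.mul_apply, Matrix.vecMul, dotProduct]

/-- **The commutant.** -/
theorem scalar_of_comm (D : Matrix (Fin 78) (Fin 78) K)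
    (hD : ∀ x, 1 ≤ x → x ≤ 8 → D * ιM (toB (Ms x)) = ιM (toB (Ms x)) * D) :
    ∃ α : K, D = α • 1 := by
  have hC : ∀ x, 1 ≤ x → x ≤ 8 → Cm ι D (toB (Ms x)) := hD
  have hB := hBV
  -- the singular element
  have hM : Cm ι D (toB Mt) := by
    have l (w : List ℕ) (hw : ∀ x ∈ w, 1 ≤ x ∧ x ≤ 8) : Cm ι D (toB (evB Ms w idB)) := by
      rw [toB_evB]
      exact Cm_prod ι D (fun x hx => hC x (hw x hx).1 (hw x hx).2)
    have e1 : (idB.length) = (evB Ms wd1 idB).length := by
      decide +kernel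
    have e2 : (addB idB (evB Ms wd1 idB)).length = (evB Ms wd2 idB).length := by
      decide +kernel
    rw [hMt, toB_addB e2, toB_addB e1, toB_idB]
    exact Cm_add ι D (Cm_add ι D (Cm_one ι D) (l _ (by decide))) (l _ (by decide))
  -- the row `u`
  set Bb := ιM (toB Bt) with hBb
  set Mb := ιM (toB Mt) with hMb
  set Nb := ιM (toB Nt) with hNb
  let F : Matrix (Fin 78) (Fin 78) (ZMod 2) := toB Ft
  have hMN' : toB Mt * toB Nt = 1 + F := by
    have e3 : idB.length = Ft.length := by simp [idB, Ft]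
    rw [← toB_mmul2 _ hB.2.2.1, hMN, toB_addB e3, toB_idB]
  have h0 : (0 : ℕ) < 78 := by norm_num
  let z : Fin 78 := ⟨0, h0⟩
  have hu : Bb z ᵥ* Mb = 0 := by
    rw [← row_mul, hBb, hMb, ← map_mul, ← toB_mmul2 _ hB.2.2.2]
    ext j
    show ι (cbit ((mmul2 Bt Mt).getD 0 0) j) = 0
    rw [mmul2_getD, hU0, cbit_zero, map_zero]
  set y := Bb z ᵥ* D with hy
  have hyM : y ᵥ* Mb = 0 := by
    rw [hy, Matrix.vecMul_vecMul, hM, ← Matrix.vecMul_vecMul, hu, Matrix.zero_vecMul]
  -- the row is an eigenvector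
  have hFrow : ∀ i j, F i j = cbit fR i * toB Bt z j := by
    intro i j
    show cbit (Ft.getD i 0) j = cbit fR i * cbit (Bt.getD 0 0) j
    have hi : (i : ℕ) < Ft.length := by simp [Ft]
    have e : Ft.getD i 0 = Nat.mul (Nat.land (Nat.shiftRight fR i) 1) (Bt.getD 0 0) := by
      rw [List.getD_eq_getElem _ _ hi]
      simp [Ft]
    rw [e]
    have e2 := cbit_land_mul (Nat.shiftRight fR i) (Bt.getD 0 0) j
    have e3 : cbit (Nat.shiftRight fR i) 0 = cbit fR i := by
      unfold cbit
      have : (Nat.shiftRight fR i).testBit 0 = (fR >>> (i : ℕ)).testBit 0 := rfl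
      rw [this, Nat.testBit_shiftRight, Nat.add_zero]
    rw [e3] at e2
    exact e2
  obtain ⟨α, hα⟩ : ∃ α : K, y = α • Bb z := by
    refine ⟨∑ i, y i * ι (cbit fR i), ?_⟩
    have h1 : y ᵥ* (Mb * Nb) = y + y ᵥ* ιM F := by
      rw [hMb, hNb, ← map_mul, hMN', map_add, map_one, Matrix.vecMul_add, Matrix.vecMul_one]
    rw [← Matrix.vecMul_vecMul, hyM, Matrix.zero_vecMul] at h1
    have h2 : y ᵥ* ιM F = (∑ i, y i * ι (cbit fR i)) • Bb z := by
      ext j
      simp only [Matrix.vecMul, dotProduct, Pi.smul_apply, smul_eq_mul, Finset.sum_mul]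
      apply Finset.sum_congr rfl
      intro i _
      show y i * ι (F i j) = y i * ι (cbit fR i) * ι (toB Bt z j)
      rw [hFrow, map_mul, mul_assoc]
    have h3 : (2 : K) = 0 := ι_two ι
    ext j
    have h4 := congrFun h1 j
    have h5 := congrFun h2 j
    simp only [Pi.zero_apply, Pi.add_apply] at h4
    rw [h5] at h4
    have h6 : y j = - (((∑ i, y i * ι (cbit fR i)) • Bb z) j) := by
      linear_combination -h4
    rw [h6]
    have h7 : ∀ a : K, -a = a := by
      intro a
      linear_combination -a * h3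
    rw [h7]
  -- the spinning
  have hspin : ∀ k : ℕ, ∀ hk : k < 78, Bb ⟨k, hk⟩ ᵥ* D = α • Bb ⟨k, hk⟩ := by
    intro k
    induction k using Nat.strong_induction_on with
    | _ k ih =>
      intro hk
      by_cases hk0 : k = 0
      · subst hk0
        exact hα
      · have ht := Cfsg.Agent.Lib.OutTree36.allN_spec hTree hk
        have hk0' : Nat.beq k 0 = false := by
          rw [Bool.eq_false_iff]
          intro h
          exact hk0 (Nat.eq_of_beq_eq_true h)
        simp only [hk0', Bool.false_or, Bool.and_eq_true, bne_iff_ne, ne_eq] at ht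
        obtain ⟨⟨⟨h1, h2⟩, h3⟩, h4⟩ := ht
        have hp : parT.getD k 0 + 1 ≤ k := Nat.le_of_ble_eq_true h1
        have hg3 : genT.getD k 0 ≤ 8 := Nat.le_of_ble_eq_true h3
        have hg1 : 1 ≤ genT.getD k 0 := Nat.one_le_iff_ne_zero.2 h2
        have he := Nat.eq_of_beq_eq_true h4
        set p := parT.getD k 0 with hpdef
        set g := genT.getD k 0 with hgdef
        have hplt : p < 78 := by omega
        have hrow : Bb ⟨k, hk⟩ = Bb ⟨p, hplt⟩ ᵥ* ιM (toB (Ms g)) := by
          rw [← row_mul, hBb, ← map_mul, ← toB_mmul2 _ (hMV g)]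
          ext j
          show ι (cbit (Bt.getD k 0) j) = ι (cbit ((mmul2 Bt (Ms g)).getD p 0) j)
          rw [mmul2_getD, he]
        rw [hrow, Matrix.vecMul_vecMul, ← hC g hg1 hg3, ← Matrix.vecMul_vecMul, ih p (by omega) hplt,
          Matrix.smul_vecMul]
  refine ⟨α, ?_⟩
  have hBD : Bb * D = α • Bb := by
    ext k j
    exact (congrFun (row_mul Bb D k) j).trans (congrFun (hspin k.1 k.2) j)
  have hinv : ιM (toB Bi) * Bb = 1 := by
    rw [hBb, ← map_mul, ← toB_mmul2 _ hB.1, hBi, toB_idB, map_one]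
  calc D = (ιM (toB Bi) * Bb) * D := by rw [hinv, one_mul]
    _ = ιM (toB Bi) * (Bb * D) := mul_assoc _ _ _
    _ = α • (ιM (toB Bi) * Bb) := by rw [hBD, Matrix.mul_smul]
    _ = α • 1 := by rw [hinv]

end Cfsg.Agent.Lib.Tw2E6Fi22
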