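import Mathlib
import Cfsg.Agent.Lib.TwE6F4.Main

/-!
# Non-conjugacy of subgroups of `²E₆(2)` under the diagonal element

Let `φ : A → ²E₆(2)` be an embedding of a group such that the square of every automorphism of `A` is inner and such that
the centralizer of the image in the general linear group is central.  Then the conjugates of the image under
the diagonal elements `d⁰, d¹, d²` are pairwise non-conjugate in `²E₆(2)`.
-/

set_option autoImplicit false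
set_option linter.unusedSectionVars false
set_option linter.unusedVariables false

namespace Cfsg.Agent.Lib.Tw2E6Fi22

open Cfsg Cfsg.Lie Matrix Cfsg.Agent.Lib.Chev Cfsg.Agent.Lib.Chev.Full Cfsg.Agent.Lib.ChevFix
open Cfsg.Agent.Lib.TwE6F4

variable {K : Type*} [Field K]

local notation "X" => TwE6.hF.c.xG

section Normal

variable (ω : Kˣ) (m : ℕ)

local notation "χ" => chr RootE6T.R chevE6.rank (vv ω m)

theorem dv_word {w : List (ℕ × K)} (hw : w ∈ e6Words K 2) :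
    dv ω m * TwE6.hF.c.wordG w * (dv ω m)⁻¹ ∈ twistedE6 K 2 := by
  obtain ⟨s0, s1, s2, s3, s4, s5, n0, n1, n2, n3, n4, n5⟩ := simple_vals
  obtain ⟨v0, v1, v2, v3, v4, v5⟩ := vv_vals ω m
  have h0 : (0 : ℕ) < chevE6.rank := by decide
  have h1 : (1 : ℕ) < chevE6.rank := by decide
  have h2 : (2 : ℕ) < chevE6.rank := by decide
  have h3 : (3 : ℕ) < chevE6.rank := by decide
  have h4 : (4 : ℕ) < chevE6.rank := by decide
  have h5 : (5 : ℕ) < chevE6.rank := by decide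
  have hp : ∀ j, j < chevE6.rank → chevE6.simple j < chevE6.nroots := fun j hj => TwE6.hF.simple_lt hj
  have hn : ∀ j, j < chevE6.rank → chevE6.neg (chevE6.simple j) < chevE6.nroots := fun j hj => TwE6.hF.neg_lt (TwE6.hF.simple_lt hj)
  have single : ∀ {r : ℕ}, r ∈ [e6p2, e6m2, e6p4, e6m4] → r < chevE6.nroots → χ r = 1 → ∀ t : K, t ^ 2 = t →
      dv ω m * X r t * (dv ω m)⁻¹ ∈ twistedE6 K 2 := by
    intro r hr hlt hχ t ht
    rw [dv_conj ω m hlt, hχ, Units.val_one, one_mul]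
    exact mem_single hr ht
  have pair : ∀ {r r' : ℕ}, (r, r') ∈ [(e6p1, e6p6), (e6m1, e6m6), (e6p3, e6p5), (e6m3, e6m5)] →
      r < chevE6.nroots → r' < chevE6.nroots → ∀ u : Kˣ, χ r = u → χ r' = u ^ 2 → ∀ t : K,
      dv ω m * (X r t * X r' (t ^ 2)) * (dv ω m)⁻¹ ∈ twistedE6 K 2 := by
    intro r r' hrs hlt hlt' u hχ hχ' t
    have e : dv ω m * (X r t * X r' (t ^ 2)) * (dv ω m)⁻¹ =
        (dv ω m * X r t * (dv ω m)⁻¹) * (dv ω m * X r' (t ^ 2) * (dv ω m)⁻¹) := by group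
    rw [e, dv_conj ω m hlt, dv_conj ω m hlt', hχ, hχ']
    have h := mem_pair (t := (u : K) * t) hrs
    have e2 : ((u : K) * t) ^ 2 = ((u ^ 2 : Kˣ) : K) * t ^ 2 := by
      rw [mul_pow]
      push_cast
      rfl
    rw [e2] at h
    exact h
  rcases hw with ⟨t, ht, r, hr, rfl⟩ | ⟨t, ⟨r, r'⟩, hrs, rfl⟩
  · rw [Checks.wordG_cons, Checks.wordG_nil, mul_one]
    have hr' := hr
    simp only [List.mem_cons, List.not_mem_nil, or_false] at hr'
    rcases hr' with rfl | rfl | rfl | rfl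
    · rw [← s1]
      refine single (by rw [s1]; simp) (hp 1 h1) ?_ t ht
      rw [chi_simple ω m h1, v1]
    · rw [← n1, ← s1]
      refine single (by rw [s1, n1]; simp) (hn 1 h1) ?_ t ht
      rw [chi_neg ω m h1, v1, inv_one]
    · rw [← s3]
      refine single (by rw [s3]; simp) (hp 3 h3) ?_ t ht
      rw [chi_simple ω m h3, v3]
    · rw [← n3, ← s3]
      refine single (by rw [s3, n3]; simp) (hn 3 h3) ?_ t ht
      rw [chi_neg ω m h3, v3, inv_one]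
  · rw [Checks.wordG_cons, Checks.wordG_cons, Checks.wordG_nil, mul_one]
    have hrs' := hrs
    simp only [List.mem_cons, List.not_mem_nil, or_false, Prod.mk.injEq] at hrs'
    rcases hrs' with ⟨rfl, rfl⟩ | ⟨rfl, rfl⟩ | ⟨rfl, rfl⟩ | ⟨rfl, rfl⟩
    · rw [← s0, ← s5]
      exact pair (by rw [s0, s5]; simp) (hp 0 h0) (hp 5 h5) (ω ^ m) (by rw [chi_simple ω m h0, v0])
        (by rw [chi_simple ω m h5, v5]) t
    · rw [← n0, ← n5, ← s0, ← s5]
      exact pair (by rw [s0, s5, n0, n5]; simp) (hn 0 h0) (hn 5 h5) (ω ^ m)⁻¹ (by rw [chi_neg ω m h0, v0])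
        (by rw [chi_neg ω m h5, v5, inv_pow]) t
    · rw [← s2, ← s4]
      exact pair (by rw [s2, s4]; simp) (hp 2 h2) (hp 4 h4) 1 (by rw [chi_simple ω m h2, v2])
        (by rw [chi_simple ω m h4, v4, one_pow]) t
    · rw [← n2, ← n4, ← s2, ← s4]
      exact pair (by rw [s2, s4, n2, n4]; simp) (hn 2 h2) (hn 4 h4) 1 (by rw [chi_neg ω m h2, v2, inv_one])
        (by rw [chi_neg ω m h4, v4, inv_one, one_pow]) t

/-- The diagonal element normalizes `²E₆(2)`. -/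
theorem dv_conj_tw {g : GL chevE6.Idx K} (hg : g ∈ twistedE6 K 2) :
    dv ω m * g * (dv ω m)⁻¹ ∈ twistedE6 K 2 := by
  have h : twistedE6 K 2 ≤ (twistedE6 K 2).comap (MulAut.conj (dv ω m)).toMonoidHom :=
    TwE6.hF.c.gen_le (fun w hw => dv_word ω m hw)
  exact h hg

end Normal

section Main

variable {A : Type*} [Group A] (φ : A →* GL chevE6.Idx K)

/-- An element normalizing the image of an injective map induces an automorphism. -/
theorem exists_aut' (hφ : Function.Injective φ) (z : GL chevE6.Idx K)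
    (h1 : ∀ a, ∃ b, z * φ a * z⁻¹ = φ b) (h2 : ∀ b, ∃ a, z * φ a * z⁻¹ = φ b) :
    ∃ θ : MulAut A, ∀ a, φ (θ a) = z * φ a * z⁻¹ := by
  choose τ hτ using h1
  let θ₀ : A →* A := MonoidHom.mk' τ (by
    intro a b
    apply hφ
    rw [map_mul, ← hτ, ← hτ, ← hτ, map_mul]
    group)
  have hθ₀ : ∀ a, φ (θ₀ a) = z * φ a * z⁻¹ := fun a => (hτ a).symm
  have hbij : Function.Bijective θ₀ := by
    constructor
    · intro a b e
      apply hφ
      have e1 := hθ₀ a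
      rw [e, hθ₀ b] at e1
      exact (mul_left_cancel (mul_right_cancel e1)).symm
    · intro b
      obtain ⟨a, e⟩ := h2 b
      refine ⟨a, ?_⟩
      apply hφ
      rw [hθ₀, e]
  exact ⟨MulEquiv.ofBijective θ₀ hbij, hθ₀⟩

/-- The relation fails on squares. -/
theorem vv_relation_sq_ne (ω : Kˣ) (hcube : ∀ a : Kˣ, a ^ 3 = 1) (hω : ω ≠ 1) {i j : ℕ} (hi : i < 3) (hj : j < 3) (hij : i ≠ j)
    (v2 : ℕ → Kˣ) (hv2 : v2 = ((vv ω j)⁻¹ * vv ω i) * ((vv ω j)⁻¹ * vv ω i)) :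
    v2 0 * (v2 2)⁻¹ * v2 4 * (v2 5)⁻¹ ≠ 1 := by
  have e : v2 0 * (v2 2)⁻¹ * v2 4 * (v2 5)⁻¹ = ω ^ (2 * ((j : ℤ) - i)) := by
    subst hv2
    have e0 : (vv ω j)⁻¹ 0 * vv ω i 0 = (ω ^ j)⁻¹ * ω ^ i := rfl
    have e2 : (vv ω j)⁻¹ 2 * vv ω i 2 = 1⁻¹ * 1 := rfl
    have e4 : (vv ω j)⁻¹ 4 * vv ω i 4 = 1⁻¹ * 1 := rfl
    have e5 : (vv ω j)⁻¹ 5 * vv ω i 5 = (ω ^ (2 * j))⁻¹ * ω ^ (2 * i) := rfl
    simp only [Pi.mul_apply]
    rw [e0, e2, e4, e5]
    simp only [inv_one, mul_one, one_mul, mul_inv, inv_inv]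
    simp only [← zpow_natCast, ← _root_.zpow_neg, ← _root_.zpow_add]
    congr 1
    push_cast
    ring
  rw [e]
  intro h
  have : Fact (Nat.Prime 3) := ⟨Nat.prime_three⟩
  have ho : orderOf ω = 3 := orderOf_eq_prime (hcube ω) hω
  have h3 := orderOf_dvd_iff_zpow_eq_one.2 h
  rw [ho] at h3
  omega

/-- **Non-conjugacy.** -/
theorem no_conj_of [Fintype K] (hφ : Function.Injective φ) (hφG : ∀ a, φ a ∈ chevE6.group K)
    (hOut : ∀ θ : MulAut A, ∃ a : A, ∀ x, θ (θ x) = a * x * a⁻¹)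
    (hCent : ∀ D : GL chevE6.Idx K, (∀ a, D * φ a = φ a * D) → ∀ y : GL chevE6.Idx K, D * y = y * D)
    (ω : Kˣ) (hcube : ∀ a : Kˣ, a ^ 3 = 1) (hω : ω ≠ 1) {i j : ℕ} (hi : i < 3) (hj : j < 3) (hij : i ≠ j)
    {g : GL chevE6.Idx K} (hg : g ∈ chevE6.group K)
    (h1 : ∀ a, ∃ b, g * (dv ω i * φ a * (dv ω i)⁻¹) * g⁻¹ = dv ω j * φ b * (dv ω j)⁻¹)
    (h2 : ∀ b, ∃ a, g * (dv ω i * φ a * (dv ω i)⁻¹) * g⁻¹ = dv ω j * φ b * (dv ω j)⁻¹) : False := by
  set z := (dv ω j)⁻¹ * g * dv ω i with hz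
  have hzc : ∀ a, z * φ a * z⁻¹ = (dv ω j)⁻¹ * (g * (dv ω i * φ a * (dv ω i)⁻¹) * g⁻¹) * dv ω j := by
    intro a
    rw [hz]
    group
  have hz1 : ∀ a, ∃ b, z * φ a * z⁻¹ = φ b := by
    intro a
    obtain ⟨b, e⟩ := h1 a
    refine ⟨b, ?_⟩
    rw [hzc, e]
    group
  have hz2 : ∀ b, ∃ a, z * φ a * z⁻¹ = φ b := by
    intro b
    obtain ⟨a, e⟩ := h2 b
    refine ⟨a, ?_⟩
    rw [hzc, e]
    group
  obtain ⟨θ, hθ⟩ := exists_aut' φ hφ z hz1 hz2
  obtain ⟨a₀, ha₀⟩ := hOut θ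
  -- the centralizing element
  set D : GL chevE6.Idx K := (φ a₀)⁻¹ * (z * z) with hD
  have hDc : ∀ a, D * φ a = φ a * D := by
    intro a
    have e1 : φ (θ (θ a)) = (z * z) * φ a * (z * z)⁻¹ := by
      rw [hθ, hθ]
      group
    rw [ha₀ a, map_mul, map_mul, map_inv] at e1
    have e2 : (z * z) * φ a = φ a₀ * φ a * (φ a₀)⁻¹ * (z * z) := by
      rw [e1]
      group
    rw [hD, mul_assoc, e2]
    group
  have hDcen := hCent D hDc
  set c := (dv ω j)⁻¹ * dv ω i with hc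
  set e := (dv ω j)⁻¹ * g * dv ω j with he
  have hzec : z = e * c := by
    rw [hz, he, hc]
    group
  have heG : e ∈ chevE6.group K := dv_inv_conj_group ω j hg
  set v' := (vv ω j)⁻¹ * vv ω i with hv'
  have hcd : c = diagG chevE6 (chr RootE6T.R chevE6.rank v') := by
    rw [hc, dv_div]
  have hceG : c * e * c⁻¹ ∈ chevE6.group K := by
    rw [hcd]
    exact Cfsg.Agent.Lib.ChevAut.diagG_conj_mem TwE6.hF _ heG
  set v2 := v' * v' with hv2
  set c2 := diagG chevE6 (chr RootE6T.R chevE6.rank v2) with hc2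
  have hcc : c * c = c2 := by
    rw [hcd, hc2, diagG_mul]
    congr 1
    funext s
    exact (chr_mul RootE6T.R chevE6.rank v' v' s).symm
  -- the element of the group
  set p := (c * e * c⁻¹)⁻¹ * e⁻¹ * φ a₀ with hp
  have hpG : p ∈ chevE6.group K :=
    Subgroup.mul_mem _ (Subgroup.mul_mem _ (Subgroup.inv_mem _ hceG) (Subgroup.inv_mem _ heG)) (hφG a₀)
  have hpc : p * D = c2 := by
    rw [hp, hD, ← hcc, hzec]
    group
  have hconj : ∀ y : GL chevE6.Idx K, p * y * p⁻¹ = c2 * y * c2⁻¹ := by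
    intro y
    rw [← hpc]
    have e1 : (p * D) * y * (p * D)⁻¹ = p * (D * y) * D⁻¹ * p⁻¹ := by group
    rw [e1, hDcen y]
    group
  have hcs : ∀ s < chevE6.nroots, ∀ t : K, c2 * X s t * c2⁻¹ =
      X s (((chr RootE6T.R chevE6.rank v2 s : Kˣ) : K) * t) := by
    intro s hs t
    exact Cfsg.Agent.Lib.ChevAut.diagG_conj_xG TwE6.hF _ hs t
  have hB : p ∈ chevE6.borelSubgroup K := by
    refine mem_borel_of_conj TwE6.hF (S := {y | ∃ k, k < chevE6.rank ∧ y = X (chevE6.simple k) 1}) ?_ ?_ hpG ?_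
    · rintro y ⟨k, hk, rfl⟩
      exact TwE6.hF.xG_mem_U (TwE6.hF.simple_lt hk) (TwE6.hF.simple_ge hk) _
    · intro k hk
      exact ⟨X (chevE6.simple k) 1, ⟨k, hk, rfl⟩, 1, one_ne_zero, coord_xG_self TwE6.hF k 1⟩
    · rintro y ⟨k, hk, rfl⟩
      rw [hconj, hcs _ (TwE6.hF.simple_lt hk)]
      exact TwE6.hF.xG_mem_U (TwE6.hF.simple_lt hk) (TwE6.hF.simple_ge hk) _
  obtain ⟨u, hu, h, hh, e3⟩ := (TwE6.hF.mem_borel_iff).1 hB
  obtain ⟨c₀, rfl⟩ := (TwE6.hF.mem_diagonal_iff).1 hh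
  have hvals : ∀ k, k < chevE6.rank → cartanMap chevE6 c₀ k = v2 k := by
    intro k hk
    have hL := coord_conj_U TwE6.hF hk (coord_tor TwE6.hF c₀ hk (coord_xG_self TwE6.hF k (1 : K))) hu
    have hR := coord_xG_self TwE6.hF k (((chr RootE6T.R chevE6.rank v2 (chevE6.simple k) : Kˣ) : K) * 1)
    rw [← hcs _ (TwE6.hF.simple_lt hk), ← hconj, e3] at hR
    have e4 : u * (tor RootE6T.R chevE6 c₀ * X (chevE6.simple k) 1 * (tor RootE6T.R chevE6 c₀)⁻¹) * u⁻¹ =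
        u * tor RootE6T.R chevE6 c₀ * X (chevE6.simple k) 1 * (u * tor RootE6T.R chevE6 c₀)⁻¹ := by group
    rw [e4] at hL
    have e6 := coord_unique TwE6.hF hk hL hR
    rw [mul_one, mul_one, TwE6.hF.chiT_eq_chr c₀ (TwE6.hF.simple_lt hk), TwE6.hF.chr_simple _ hk, TwE6.hF.chr_simple _ hk] at e6
    exact Units.ext e6
  have hrel := torus_relation hcube c₀
  rw [hvals 0 (by decide), hvals 2 (by decide), hvals 4 (by decide), hvals 5 (by decide)] at hrel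
  exact vv_relation_sq_ne ω hcube hω hi hj hij v2 hv2 hrel

/-- **The three subgroups.** -/
theorem main_of [Fintype K] (hK : Fintype.card K = 4) (hφ : Function.Injective φ) (hT : ∀ a, φ a ∈ twistedE6 K 2)
    (hOut : ∀ θ : MulAut A, ∃ a : A, ∀ x, θ (θ x) = a * x * a⁻¹)
    (hCent : ∀ D : GL chevE6.Idx K, (∀ a, D * φ a = φ a * D) → ∀ y : GL chevE6.Idx K, D * y = y * D) :
    ∃ H : Fin 3 → Subgroup (twistedE6 K 2),
      (∀ i, Nonempty ((H i) ≃* A)) ∧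
      (∀ i j, i ≠ j → ∀ g : (twistedE6 K 2), (H i).map (MulAut.conj g).toMonoidHom ≠ H j) := by
  classical
  have hcard : Fintype.card Kˣ = 3 := by
    rw [Fintype.card_units, hK]
  have hcube : ∀ a : Kˣ, a ^ 3 = 1 := fun a => by
    rw [← hcard]
    exact pow_card_eq_one
  obtain ⟨ω, hω⟩ : ∃ ω : Kˣ, ω ≠ 1 := by
    have : Nontrivial Kˣ := Fintype.one_lt_card_iff_nontrivial.1 (by rw [hcard]; norm_num)
    exact exists_ne 1
  have hG : ∀ g : GL chevE6.Idx K, g ∈ twistedE6 K 2 → g ∈ chevE6.group K := by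
    intro g hg
    have hq : IsPrimePow 2 := Nat.prime_two.isPrimePow
    obtain ⟨f, hf, hf2⟩ := TwE6.exists_frob2 (K := K) hq (by rw [hK]; norm_num)
    rw [← TwE6.G1_eq f hf hf2] at hg
    exact ((TwE6.sc f).G1_le_Fx hg).1
  let Y : Fin 3 → Subgroup (GL chevE6.Idx K) :=
    fun i => (φ.range).map (MulAut.conj (dv ω i)).toMonoidHom
  have hYmem : ∀ (i : Fin 3) (a : A), dv ω i * φ a * (dv ω i)⁻¹ ∈ Y i := fun i a =>
    ⟨_, ⟨a, rfl⟩, rfl⟩
  have hY : ∀ i, Y i ≤ twistedE6 K 2 := by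
    rintro i _ ⟨_, ⟨a, rfl⟩, rfl⟩
    exact dv_conj_tw ω i (hT a)
  refine ⟨fun i => (Y i).subgroupOf (twistedE6 K 2), ?_, ?_⟩
  · intro i
    refine ⟨(Subgroup.subgroupOfEquivOfLe (hY i)).trans ?_⟩
    exact ((Subgroup.equivMapOfInjective _ _ (MulEquiv.injective _)).symm).trans
      (MonoidHom.ofInjective hφ).symm
  · intro i j hij g hmap
    replace hmap : ((Y i).subgroupOf (twistedE6 K 2)).map (MulAut.conj g).toMonoidHom =
        (Y j).subgroupOf (twistedE6 K 2) := hmap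
    have hne : (i : ℕ) ≠ j := fun h => hij (Fin.ext h)
    refine no_conj_of φ hφ (fun a => hG _ (hT a)) hOut hCent ω hcube hω i.2 j.2 hne (g := g.1) (hG _ g.2) ?_ ?_
    · intro a
      have h1 : (⟨_, hY i (hYmem i a)⟩ : ↥(twistedE6 K 2)) ∈ (Y i).subgroupOf (twistedE6 K 2) :=
        Subgroup.mem_subgroupOf.2 (hYmem i a)
      have h3 : (MulAut.conj g).toMonoidHom (⟨_, hY i (hYmem i a)⟩ : ↥(twistedE6 K 2)) ∈
          (Y j).subgroupOf (twistedE6 K 2) := by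
        rw [← hmap]
        exact ⟨_, h1, rfl⟩
      obtain ⟨_, ⟨b, rfl⟩, e⟩ := Subgroup.mem_subgroupOf.1 h3
      exact ⟨b, e.symm⟩
    · intro b
      have h1 : (⟨_, hY j (hYmem j b)⟩ : ↥(twistedE6 K 2)) ∈ (Y j).subgroupOf (twistedE6 K 2) :=
        Subgroup.mem_subgroupOf.2 (hYmem j b)
      rw [← hmap] at h1
      obtain ⟨x, hx, e⟩ := h1
      obtain ⟨_, ⟨a, rfl⟩, e2⟩ := Subgroup.mem_subgroupOf.1 hx
      refine ⟨a, ?_⟩
      have e3 := congrArg Subtype.val e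
      have e4 : (g.1 * x.1 * g.1⁻¹ : GL chevE6.Idx K) = dv ω j * φ b * (dv ω j)⁻¹ := e3
      rw [← e4, ← e2]
      rfl

end Main

end Cfsg.Agent.Lib.Tw2E6Fi22
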