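import Mathlib
import Cfsg.Agent.Lib.Tw2E6Fi22.TabL

set_option autoImplicit false
set_option maxRecDepth 1000000
set_option linter.all false

namespace Cfsg.Agent.Lib.Tw2E6Fi22

open Cfsg.Lie Cfsg.Agent.Lib.F4Mat

/-- A table. -/
def xa00 : List ℕ := [
0x1,
0x80000002,
0x4,
0x8,
0x10,
0x20,
0x40,
0xc0,
0x100,
0x200,
0x400,
0x800,
0x1000,
0x2000,
0x4000,
0x8000,
0x10000,
0x24000,
0x48000,
0x90000,
0x100000,
0x200000,
0x400000,
0x800000,
0x1000000,
0x2000000,
0x4000000,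
0x8000000,
0x10000000,
0x20000000,
0x40000000,
0x80000000,
0x102000000,
0x204000000,
0x408000000,
0x800000000,
0x1010000000,
0x2020000000,
0x4040000000,
0x8000000000,
0x10000000000,
0x20000000000,
0x40000000000,
0x80000000000,
0x100000000000,
0x200000000000,
0x400000000000,
0x800000000000,
0x1000000000000,
0x2000000000000,
0x4000000000000,
0x8000000000000,
0x10000080000008,
0x20200000000000,
0x40400000000000,
0x80800000000000,
0x102000000000000,
0x204000000000000,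
0x408000000000000,
0x800000000000000,
0x1000000000000000,
0x2000000000000000,
0x4000000000000000,
0x8000000000000000,
0x10000000000000000,
0x20000000000000000,
0x40000000000000000,
0x90000000000000000,
0x120000000000000000,
0x240000000000000000,
0x400000000000000000,
0x800000000000000000,
0x1000000000000000000,
0x2000000000000000000,
0x4000000000000000000,
0x8000000000000000000,
0x10000000000000000000,
0x30000000000000000000
]

/-- A table. -/
def xa01 : List ℕ := [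
0x0,
0x0,
0x0,
0x0,
0x0,
0x0,
0x0,
0x0,
0x0,
0x0,
0x0,
0x0,
0x0,
0x0,
0x0,
0x0,
0x0,
0x0,
0x0,
0x0,
0x0,
0x0,
0x0,
0x0,
0x0,
0x0,
0x0,
0x0,
0x0,
0x0,
0x0,
0x0,
0x0,
0x0,
0x0,
0x0,
0x0,
0x0,
0x0,
0x0,
0x0,
0x0,
0x0,
0x0,
0x0,
0x0,
0x0,
0x0,
0x0,
0x0,
0x0,
0x0,
0x0,
0x0,
0x0,
0x0,
0x0,
0x0,
0x0,
0x0,
0x0,
0x0,
0x0,
0x0,
0x0,
0x0,
0x0,
0x0,
0x0,
0x0,
0x0,
0x0,
0x0,
0x0,
0x0,
0x0,
0x0,
0x0
]

set_option Elab.async false in
theorem letter0 : chevE6.xMat K4 ⟨46, by decide⟩ K4.e * reI K4 (toP Qp) = reI K4 (toP Qp) * reI K4 (i4.mapMatrix (toB (Ls 0))) :=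
  letter_single (A := (xa00, xa01)) (by decide +kernel) ⟨by decide +kernel, by decide +kernel⟩ hQV (hLV 0) (by decide +kernel)

end Cfsg.Agent.Lib.Tw2E6Fi22
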