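import Mathlib
import Cfsg.Agent.Lib.Tw2E6Fi22.TabL

set_option autoImplicit false
set_option maxRecDepth 1000000
set_option linter.all false

namespace Cfsg.Agent.Lib.Tw2E6Fi22

open Cfsg.Lie Cfsg.Agent.Lib.F4Mat

/-- A table. -/
def xa100 : List ℕ := [
0x1,
0x2,
0x1000000000004,
0x8,
0x10,
0x20,
0x40,
0x80,
0x900,
0x1200,
0x2400,
0x800,
0x1000,
0x2000,
0x4000,
0x8000,
0x10000,
0x20000,
0x40000,
0x80000,
0x300000,
0x200000,
0x400000,
0x800000,
0x1000000,
0x12000000,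
0x24000000,
0x48000000,
0x10000000,
0x20000000,
0x40000000,
0x80000000,
0x1100000000,
0x2200000000,
0x4400000000,
0x1000800000009,
0x1000000000,
0x2000000000,
0x4000000000,
0x8000000000,
0x10000000000,
0x20000000000,
0x40000000000,
0x80000000000,
0x100000000000,
0x2200000000000,
0x4400000000000,
0x8800000000000,
0x1000000000000,
0x2000000000000,
0x4000000000000,
0x8000000000000,
0x10000000000000,
0x120000000000000,
0x240000000000000,
0x480000000000000,
0x100000000000000,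
0x200000000000000,
0x400000000000000,
0x800000000000000,
0x1000000000000000,
0x2000000000000000,
0xc000000000000000,
0x8000000000000000,
0x10000000000000000,
0x20000000000000000,
0x40000000000000000,
0x80000000000000000,
0x100000000000000000,
0x200000000000000000,
0x2400000000000000000,
0x4800000000000000000,
0x9000000000000000000,
0x2000000000000000000,
0x4000000000000000000,
0x8000000000000000000,
0x10000000000000000000,
0x20000000000000000000
]

/-- A table. -/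
def xa101 : List ℕ := [
0x0,
0x0,
0x0,
0x0,
0x0,
0x0,
0x0,
0x0,
0x0,
0x0,
0x0,
0x0,
0x0,
0x0,
0x0,
0x0,
0x0,
0x0,
0x0,
0x0,
0x0,
0x0,
0x0,
0x0,
0x0,
0x0,
0x0,
0x0,
0x0,
0x0,
0x0,
0x0,
0x0,
0x0,
0x0,
0x0,
0x0,
0x0,
0x0,
0x0,
0x0,
0x0,
0x0,
0x0,
0x0,
0x0,
0x0,
0x0,
0x0,
0x0,
0x0,
0x0,
0x0,
0x0,
0x0,
0x0,
0x0,
0x0,
0x0,
0x0,
0x0,
0x0,
0x0,
0x0,
0x0,
0x0,
0x0,
0x0,
0x0,
0x0,
0x0,
0x0,
0x0,
0x0,
0x0,
0x0,
0x0,
0x0
]

/-- A table. -/
def xb100 : List ℕ := [
0x1,
0x2,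
0x4,
0x8,
0x80000000010,
0x20,
0x40,
0x80,
0x300,
0x200,
0x400,
0x1800,
0x1000,
0x2000,
0x4000,
0x18000,
0x10000,
0x20000,
0xc0000,
0x80000,
0x100000,
0x200000,
0xc00000,
0x800000,
0x1000000,
0x2000000,
0xc000000,
0x8000000,
0x10000000,
0x60000000,
0x40000000,
0x80000000,
0x100000000,
0x600000000,
0x400000000,
0x800000000,
0x1000000000,
0x6000000000,
0x4000000000,
0x28000000000,
0x90000000028,
0x20000000000,
0x140000000000,
0x80000000000,
0x100000000000,
0x600000000000,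
0x400000000000,
0x800000000000,
0x1000000000000,
0x6000000000000,
0x4000000000000,
0x8000000000000,
0x10000000000000,
0x60000000000000,
0x40000000000000,
0x80000000000000,
0x300000000000000,
0x200000000000000,
0x400000000000000,
0x800000000000000,
0x3000000000000000,
0x2000000000000000,
0x4000000000000000,
0x8000000000000000,
0x30000000000000000,
0x20000000000000000,
0x40000000000000000,
0x180000000000000000,
0x100000000000000000,
0x200000000000000000,
0x400000000000000000,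
0x1800000000000000000,
0x1000000000000000000,
0x2000000000000000000,
0xc000000000000000000,
0x8000000000000000000,
0x10000000000000000000,
0x20000000000000000000
]

/-- A table. -/
def xb101 : List ℕ := [
0x0,
0x0,
0x0,
0x0,
0x0,
0x0,
0x0,
0x0,
0x0,
0x0,
0x0,
0x0,
0x0,
0x0,
0x0,
0x0,
0x0,
0x0,
0x0,
0x0,
0x0,
0x0,
0x0,
0x0,
0x0,
0x0,
0x0,
0x0,
0x0,
0x0,
0x0,
0x0,
0x0,
0x0,
0x0,
0x0,
0x0,
0x0,
0x0,
0x0,
0x0,
0x0,
0x0,
0x0,
0x0,
0x0,
0x0,
0x0,
0x0,
0x0,
0x0,
0x0,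
0x0,
0x0,
0x0,
0x0,
0x0,
0x0,
0x0,
0x0,
0x0,
0x0,
0x0,
0x0,
0x0,
0x0,
0x0,
0x0,
0x0,
0x0,
0x0,
0x0,
0x0,
0x0,
0x0,
0x0,
0x0,
0x0
]

set_option Elab.async false in
theorem letter10 : chevE6.xMat K4 ⟨29, by decide⟩ K4.e * chevE6.xMat K4 ⟨34, by decide⟩ K4.e * reI K4 (toP Qp) = reI K4 (toP Qp) * reI K4 (i4.mapMatrix (toB (Ls 10))) :=
  letter_pair (A := (xa100, xa101)) (B := (xb100, xb101)) (by decide +kernel) (by decide +kernel) ⟨by decide +kernel, by decide +kernel⟩ ⟨by decide +kernel, by decide +kernel⟩ hQV (hLV 10) (by decide +kernel)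

end Cfsg.Agent.Lib.Tw2E6Fi22
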