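import Mathlib
import Cfsg.Agent.Lib.Tw2E6Fi22.TabL

set_option autoImplicit false
set_option maxRecDepth 1000000
set_option linter.all false

namespace Cfsg.Agent.Lib.Tw2E6Fi22

open Cfsg.Lie Cfsg.Agent.Lib.F4Mat

/-- A table. -/
def xa30 : List ℕ := [
0x1,
0x2,
0x4,
0x200000000008,
0x10,
0x20,
0x40,
0x180,
0x100,
0x200,
0x400,
0x800,
0x5000,
0xa000,
0x4000,
0x8000,
0x10000,
0x20000,
0x40000,
0x180000,
0x100000,
0x200000,
0x400000,
0x2800000,
0x5000000,
0x2000000,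
0x4000000,
0x8000000,
0x10000000,
0x20000000,
0xc0000000,
0x80000000,
0x100000000,
0x200000000,
0xc00000000,
0x800000000,
0x9000000000,
0x12000000000,
0x204000000016,
0x8000000000,
0x10000000000,
0x20000000000,
0x40000000000,
0x480000000000,
0x900000000000,
0x200000000000,
0x400000000000,
0x800000000000,
0x3000000000000,
0x2000000000000,
0x4000000000000,
0x8000000000000,
0x30000000000000,
0x20000000000000,
0x40000000000000,
0x80000000000000,
0x100000000000000,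
0xa00000000000000,
0x1400000000000000,
0x800000000000000,
0x1000000000000000,
0x2000000000000000,
0x4000000000000000,
0x18000000000000000,
0x10000000000000000,
0x20000000000000000,
0x40000000000000000,
0x80000000000000000,
0x500000000000000000,
0xa00000000000000000,
0x400000000000000000,
0x800000000000000000,
0x1000000000000000000,
0x2000000000000000000,
0x4000000000000000000,
0x18000000000000000000,
0x10000000000000000000,
0x20000000000000000000
]

/-- A table. -/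
def xa31 : List ℕ := [
0x0,
0x0,
0x0,
0x0,
0x0,
0x0,
0x0,
0x0,
0x0,
0x0,
0x0,
0x0,
0x0,
0x0,
0x0,
0x0,
0x0,
0x0,
0x0,
0x0,
0x0,
0x0,
0x0,
0x0,
0x0,
0x0,
0x0,
0x0,
0x0,
0x0,
0x0,
0x0,
0x0,
0x0,
0x0,
0x0,
0x0,
0x0,
0x0,
0x0,
0x0,
0x0,
0x0,
0x0,
0x0,
0x0,
0x0,
0x0,
0x0,
0x0,
0x0,
0x0,
0x0,
0x0,
0x0,
0x0,
0x0,
0x0,
0x0,
0x0,
0x0,
0x0,
0x0,
0x0,
0x0,
0x0,
0x0,
0x0,
0x0,
0x0,
0x0,
0x0,
0x0,
0x0,
0x0,
0x0,
0x0,
0x0
]

set_option Elab.async false in
theorem letter3 : chevE6.xMat K4 ⟨32, by decide⟩ K4.e * reI K4 (toP Qp) = reI K4 (toP Qp) * reI K4 (i4.mapMatrix (toB (Ls 3))) :=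
  letter_single (A := (xa30, xa31)) (by decide +kernel) ⟨by decide +kernel, by decide +kernel⟩ hQV (hLV 3) (by decide +kernel)

end Cfsg.Agent.Lib.Tw2E6Fi22
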