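import Mathlib
import Cfsg.Agent.Lib.Tw2E6Fi22.TabM
import Cfsg.Agent.Lib.OutTreeE36
import Cfsg.Agent.TcChain36.Fi22.Main

/-!
# The presented group `Fi₂₂` in the general linear group of dimension `78` over `𝔽₂`
-/

set_option autoImplicit false
set_option linter.unusedSectionVars false
set_option linter.unusedVariables false
set_option maxRecDepth 1000000

namespace Cfsg.Agent.Lib.Tw2E6Fi22

open Matrix Cfsg.Agent.Lib.OutTree36

theorem invLs (i : ℕ) : toB (Ls i) * toB (Ls i) = 1 := by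
  by_cases h : i < 12
  · rw [← toB_mmul2 _ (hLV i), hLI i h, toB_idB]
  · have e : Ls i = idB := List.getD_eq_default _ _ (by simp; omega)
    rw [e, toB_idB, one_mul]

theorem invMs (i : ℕ) : toB (Ms i) * toB (Ms i) = 1 := by
  by_cases h : i < 9
  · rw [← toB_mmul2 _ (hMV i), hMI i h, toB_idB]
  · have e : Ms i = idB := List.getD_eq_default _ _ (by simp; omega)
    rw [e, toB_idB, one_mul]

/-- The letters of the twisted group over `𝔽₂`. -/
def Lu (i : ℕ) : GL (Fin 78) (ZMod 2) := ⟨toB (Ls i), toB (Ls i), invLs i, invLs i⟩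

/-- The generators of the group over `𝔽₂`. -/
def Uu (i : ℕ) : GL (Fin 78) (ZMod 2) := ⟨toB (Ms i), toB (Ms i), invMs i, invMs i⟩

theorem Uu_inv (i : ℕ) : (Uu i)⁻¹ = Uu i := Units.ext rfl

theorem prod_val {U : ℕ → GL (Fin 78) (ZMod 2)} (w : List ℕ) :
    (((w.map U).prod : GL (Fin 78) (ZMod 2)) : Matrix (Fin 78) (Fin 78) (ZMod 2)) =
      (w.map fun i => ((U i : GL (Fin 78) (ZMod 2)) : Matrix (Fin 78) (Fin 78) (ZMod 2))).prod := by
  induction w with
  | nil => simp
  | cons x w ih => simp [ih]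

/-- A generator as a word in the letters. -/
theorem Uu_word {i : ℕ} (hi : i < 9) : Uu i = ((wA i).map Lu).prod := by
  apply Units.ext
  rw [prod_val]
  show toB (Ms i) = ((wA i).map fun i => toB (Ls i)).prod
  have h := evB_spec hLV (wA i) idB
  rw [hMW i hi, toB_idB, one_mul] at h
  exact h

theorem word_ok {w : List ℕ} (h : evB Ms w idB = idB) : evL Uu w = 1 := by
  apply Units.ext
  unfold evL
  rw [prod_val]
  show (w.map fun i => toB (Ms i)).prod = 1
  have h1 := evB_spec hMV w idB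
  rw [h, toB_idB, one_mul] at h1
  exact h1.symm

/-- The images of the letters. -/
def sf (x : Cfsg.Spor.Fi22.Gen) : GL (Fin 78) (ZMod 2) := Uu (idx (x, true))

theorem hidx (x : Cfsg.Spor.Fi22.Gen) : idx (x, false) = idx (x, true) := by cases x <;> rfl

theorem rel_ok : ∀ r ∈ (Cfsg.Spor.coxRelators Cfsg.Spor.Fi22.edges ∪ {r | r ∈ Cfsg.Spor.Fi22.extra}),
    FreeGroup.lift sf r = 1 := by
  intro r hr
  rw [lift_eq_evL sf Uu idx (fun x => rfl) (fun x => by rw [hidx, ← Uu_inv]; rfl)]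
  apply word_ok
  rcases hr with ⟨x, -, y, -, rfl⟩ | hr
  · exact hCox x (mem_allG x) y (mem_allG y)
  · exact hExtra r hr

/-- The representation. -/
noncomputable def rho2 : Cfsg.Spor.Fi22 →* GL (Fin 78) (ZMod 2) := PresentedGroup.toGroup rel_ok

theorem rho2_of (x : Cfsg.Spor.Fi22.Gen) : rho2 (PresentedGroup.of x) = Uu (idx (x, true)) := by
  unfold rho2
  rw [PresentedGroup.toGroup.of]
  rfl

instance simpleFi22 : IsSimpleGroup Cfsg.Spor.Fi22 := Cfsg.Agent.TcChain36.Fi22.main.1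

set_option Elab.async false in
theorem Ms0_ne : ((Ms 0).getD 0 0).testBit 6 = true := by decide +kernel

theorem rho2_inj : Function.Injective rho2 := by
  rw [injective_iff_map_eq_one]
  have hN : rho2.ker.Normal := inferInstance
  rcases hN.eq_bot_or_eq_top with h | h
  · intro a ha
    have : a ∈ rho2.ker := ha
    rw [h] at this
    simpa using this
  · exfalso
    have h1 : PresentedGroup.of Cfsg.Spor.Fi22.Gen.a ∈ rho2.ker := by rw [h]; trivial
    have h2 : rho2 (PresentedGroup.of Cfsg.Spor.Fi22.Gen.a) = 1 := h1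
    rw [rho2_of] at h2
    have h3 : toB (Ms 0) = 1 := congrArg (fun u : GL (Fin 78) (ZMod 2) => (u : Matrix (Fin 78) (Fin 78) (ZMod 2))) h2
    have h4 : cbit ((Ms 0).getD 0 0) 6 = (1 : Matrix (Fin 78) (Fin 78) (ZMod 2)) ⟨0, by norm_num⟩ ⟨6, by norm_num⟩ :=
      congrFun (congrFun h3 ⟨0, by norm_num⟩) ⟨6, by norm_num⟩
    rw [Matrix.one_apply_ne (by simp [Fin.ext_iff])] at h4
    unfold cbit at h4
    rw [Ms0_ne] at h4
    exact one_ne_zero h4

end Cfsg.Agent.Lib.Tw2E6Fi22
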