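import Mathlib
import Cfsg.Agent.Lib.Tw2E6Fi22.TabL

set_option autoImplicit false
set_option maxRecDepth 1000000
set_option linter.all false

namespace Cfsg.Agent.Lib.Tw2E6Fi22

open Cfsg.Lie

/-- Plane 0 of the inverse change of basis. -/
def Qi0 : List ℕ := [
0x1,
0x21,
0x2,
0x4,
0x14,
0x8,
0x40,
0x80,
0x100,
0x200,
0xa00,
0x400,
0x400400,
0x1000,
0x2000,
0x802000,
0x4000,
0x8000,
0x2008000,
0x10000,
0x10010000,
0x20000,
0x40000,
0x100040000,
0x80000,
0x1000080000,
0x100000,
0x8000100000,
0x200000,
0x20000200000,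
0x1000000,
0x4000000,
0x8000000,
0x28000000,
0x40000000,
0x80000000,
0x200000000,
0x400000000,
0x2400000000,
0x800000000,
0x10800000000,
0x4000000000,
0x40000000000,
0x4000040000000000,
0x80000000000,
0x1080000000000,
0x100000000000,
0x8000100000000000,
0x200000000000,
0x400000000000,
0x2400000000000,
0x800000000000,
0x10000800000000000,
0x4000000000000,
0x8000000000000,
0x20008000000000000,
0x10000000000000,
0x20000000000000,
0x40000000000000,
0x140000000000000,
0x80000000000000,
0x80080000000000000,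
0x200000000000000,
0x400000000000000,
0x100400000000000000,
0x800000000000000,
0x1000000000000000,
0x401000000000000000,
0x2000000000000000,
0x2002000000000000000,
0x40000000000000000,
0x200000000000000000,
0x800000000000000000,
0x1000000000000000000,
0x5000000000000000000,
0x8000000000000000000,
0x10000000000000000000,
0x20000000000000000000
]

/-- Plane 1 of the inverse change of basis. -/
def Qi1 : List ℕ := [
0x21,
0x0,
0x0,
0x14,
0x0,
0x0,
0x0,
0x0,
0x0,
0xa00,
0x0,
0x400400,
0x0,
0x0,
0x802000,
0x0,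
0x0,
0x2008000,
0x0,
0x10010000,
0x0,
0x0,
0x100040000,
0x0,
0x1000080000,
0x0,
0x8000100000,
0x0,
0x20000200000,
0x0,
0x0,
0x0,
0x28000000,
0x0,
0x0,
0x0,
0x0,
0x2400000000,
0x0,
0x10800000000,
0x0,
0x0,
0x4000040000000000,
0x0,
0x1080000000000,
0x0,
0x8000100000000000,
0x0,
0x0,
0x2400000000000,
0x0,
0x10000800000000000,
0x0,
0x0,
0x20008000000000000,
0x0,
0x0,
0x0,
0x140000000000000,
0x0,
0x80080000000000000,
0x0,
0x0,
0x100400000000000000,
0x0,
0x0,
0x401000000000000000,
0x0,
0x2002000000000000000,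
0x0,
0x0,
0x0,
0x0,
0x5000000000000000000,
0x0,
0x0,
0x0,
0x0
]

/-- The inverse change of basis. -/
def Qip : List ℕ × List ℕ := (Qi0, Qi1)

set_option Elab.async false in
theorem hQiV : VP Qip := ⟨by decide +kernel, by decide +kernel⟩

set_option Elab.async false in
theorem hQ1 : pmul Qp Qip = (idB, zL) := by decide +kernel

set_option Elab.async false in
theorem hQ2 : pmul Qip Qp = (idB, zL) := by decide +kernel

end Cfsg.Agent.Lib.Tw2E6Fi22
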