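import Mathlib
import Cfsg.Agent.Lib.Tw2E6Fi22.Conj
import Cfsg.Agent.Lib.Tw2E6Fi22.Cert
import Cfsg.Agent.Lib.Tw2E6Fi22.Rep2
import Cfsg.Agent.Lib.Tw2E6Fi22.TabQ
import Cfsg.Agent.Lib.Tw2E6Fi22.Let0
import Cfsg.Agent.Lib.Tw2E6Fi22.Let1
import Cfsg.Agent.Lib.Tw2E6Fi22.Let2
import Cfsg.Agent.Lib.Tw2E6Fi22.Let3
import Cfsg.Agent.Lib.Tw2E6Fi22.Let4
import Cfsg.Agent.Lib.Tw2E6Fi22.Let5
import Cfsg.Agent.Lib.Tw2E6Fi22.Let6
import Cfsg.Agent.Lib.Tw2E6Fi22.Let7
import Cfsg.Agent.Lib.Tw2E6Fi22.Let8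
import Cfsg.Agent.Lib.Tw2E6Fi22.Let9
import Cfsg.Agent.Lib.Tw2E6Fi22.Let10
import Cfsg.Agent.Lib.Tw2E6Fi22.Let11

/-!
# The representation of `Fi₂₂` in `²E₆(2)`
-/

set_option autoImplicit false
set_option linter.unusedSectionVars false
set_option linter.unusedVariables false
set_option maxRecDepth 100000

namespace Cfsg.Agent.Lib.Tw2E6Fi22

open Cfsg Cfsg.Lie Matrix Cfsg.Agent.Lib.Chev Cfsg.Agent.Lib.ChevFix Cfsg.Agent.Lib.F4Mat
open Cfsg.Agent.Lib.TwE6F4 Cfsg.Agent.Lib.OutTree36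

local notation "X" => TwE6.hF.c.xG

section Ring

variable {F : Type*} [Field F]

/-- The change of ring and index set. -/
noncomputable def Tι (ι : ZMod 2 →+* F) : GL (Fin 78) (ZMod 2) →* GL chevE6.Idx F :=
  Units.map (((reI F).toRingHom.comp ι.mapMatrix : Matrix (Fin 78) (Fin 78) (ZMod 2) →+* Matrix chevE6.Idx chevE6.Idx F) :
    Matrix (Fin 78) (Fin 78) (ZMod 2) →* Matrix chevE6.Idx chevE6.Idx F)

theorem Tι_val (ι : ZMod 2 →+* F) (a : GL (Fin 78) (ZMod 2)) :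
    ((Tι ι a : GL chevE6.Idx F) : Matrix chevE6.Idx chevE6.Idx F) =
      reI F (ι.mapMatrix (a : Matrix (Fin 78) (Fin 78) (ZMod 2))) := rfl

theorem Tι_inj (ι : ZMod 2 →+* F) : Function.Injective (Tι ι) := by
  intro a b h
  apply Units.ext
  have h1 : reI F (ι.mapMatrix (a : Matrix (Fin 78) (Fin 78) (ZMod 2))) = reI F (ι.mapMatrix (b : Matrix (Fin 78) (Fin 78) (ZMod 2))) :=
    congrArg (fun u : GL chevE6.Idx F => (u : Matrix chevE6.Idx chevE6.Idx F)) h
  have h2 := (reI F).injective h1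
  ext i j
  have h3 := congrFun (congrFun h2 i) j
  exact ι.injective h3

/-- The letters over a field. -/
noncomputable def Yl (w : F) (i : ℕ) : GL chevE6.Idx F :=
  List.getD [X e6p2 1, X e6m2 1, X e6p4 1, X e6m4 1,
    X e6p1 1 * X e6p6 (1 ^ 2), X e6p1 w * X e6p6 (w ^ 2), X e6m1 1 * X e6m6 (1 ^ 2), X e6m1 w * X e6m6 (w ^ 2),
    X e6p3 1 * X e6p5 (1 ^ 2), X e6p3 w * X e6p5 (w ^ 2), X e6m3 1 * X e6m5 (1 ^ 2), X e6m3 w * X e6m5 (w ^ 2)] i 1

theorem Yl_ge (w : F) {i : ℕ} (h : 12 ≤ i) : Yl w i = 1 :=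
  List.getD_eq_default _ _ (by simpa using h)

theorem Yl_mem (w : F) (i : ℕ) : Yl w i ∈ twistedE6 F 2 := by
  by_cases h : i < 12
  · have s (r : ℕ) (hr : r ∈ [e6p2, e6m2, e6p4, e6m4]) : X r (1 : F) ∈ twistedE6 F 2 :=
      mem_single hr (by simp)
    have p (r r' : ℕ) (hrs : (r, r') ∈ [(e6p1, e6p6), (e6m1, e6m6), (e6p3, e6p5), (e6m3, e6m5)]) (t : F) :
        X r t * X r' (t ^ 2) ∈ twistedE6 F 2 := mem_pair hrs t
    interval_cases i
    · exact s _ (by simp)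
    · exact s _ (by simp)
    · exact s _ (by simp)
    · exact s _ (by simp)
    · exact p _ _ (by simp) _
    · exact p _ _ (by simp) _
    · exact p _ _ (by simp) _
    · exact p _ _ (by simp) _
    · exact p _ _ (by simp) _
    · exact p _ _ (by simp) _
    · exact p _ _ (by simp) _
    · exact p _ _ (by simp) _
  · rw [Yl_ge w (by omega)]
    exact Subgroup.one_mem _

end Ring

/-! ## The field with four elements -/

theorem Q4_mul1 : reI K4 (toP Qp) * reI K4 (toP Qip) = 1 := by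
  rw [← map_mul, ← toP_pmul hQV hQiV, hQ1, toP_zero, toB_idB, map_one, map_one]

theorem Q4_mul2 : reI K4 (toP Qip) * reI K4 (toP Qp) = 1 := by
  rw [← map_mul, ← toP_pmul hQiV hQV, hQ2, toP_zero, toB_idB, map_one, map_one]

/-- The change of basis. -/
noncomputable def Q4 : GL chevE6.Idx K4 := ⟨reI K4 (toP Qp), reI K4 (toP Qip), Q4_mul1, Q4_mul2⟩

theorem coeX (r : ℕ) (hr : r < chevE6.nroots) (t : K4) :
    ((X r t : GL chevE6.Idx K4) : Matrix chevE6.Idx chevE6.Idx K4) = chevE6.xMat K4 ⟨r, hr⟩ t := by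
  rw [Checks.coe_xG]
  exact dif_pos hr

theorem Yl_letter (i : ℕ) :
    ((Yl K4.w i : GL chevE6.Idx K4) : Matrix chevE6.Idx chevE6.Idx K4) * (Q4 : Matrix chevE6.Idx chevE6.Idx K4) =
      (Q4 : Matrix chevE6.Idx chevE6.Idx K4) * reI K4 (i4.mapMatrix (toB (Ls i))) := by
  by_cases h : i < 12
  · have hp (r r' : ℕ) (t t' : K4) : ((X r t * X r' t' : GL chevE6.Idx K4) : Matrix chevE6.Idx chevE6.Idx K4) =
        ((X r t : GL chevE6.Idx K4) : Matrix chevE6.Idx chevE6.Idx K4) * ((X r' t' : GL chevE6.Idx K4) : Matrix chevE6.Idx chevE6.Idx K4) := rfl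
    interval_cases i
    · show ((X e6p2 (1 : K4) : GL chevE6.Idx K4) : Matrix chevE6.Idx chevE6.Idx K4) * _ = _
      rw [coeX _ (by decide)]
      exact letter0
    · show ((X e6m2 (1 : K4) : GL chevE6.Idx K4) : Matrix chevE6.Idx chevE6.Idx K4) * _ = _
      rw [coeX _ (by decide)]
      exact letter1
    · show ((X e6p4 (1 : K4) : GL chevE6.Idx K4) : Matrix chevE6.Idx chevE6.Idx K4) * _ = _
      rw [coeX _ (by decide)]
      exact letter2
    · show ((X e6m4 (1 : K4) : GL chevE6.Idx K4) : Matrix chevE6.Idx chevE6.Idx K4) * _ = _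
      rw [coeX _ (by decide)]
      exact letter3
    · show ((X e6p1 (1 : K4) * X e6p6 ((1 : K4) ^ 2) : GL chevE6.Idx K4) : Matrix chevE6.Idx chevE6.Idx K4) * _ = _
      rw [hp, coeX _ (by decide), coeX _ (by decide)]
      exact letter4
    · show ((X e6p1 K4.w * X e6p6 (K4.w ^ 2) : GL chevE6.Idx K4) : Matrix chevE6.Idx chevE6.Idx K4) * _ = _
      rw [hp, coeX _ (by decide), coeX _ (by decide)]
      exact letter5
    · show ((X e6m1 (1 : K4) * X e6m6 ((1 : K4) ^ 2) : GL chevE6.Idx K4) : Matrix chevE6.Idx chevE6.Idx K4) * _ = _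
      rw [hp, coeX _ (by decide), coeX _ (by decide)]
      exact letter6
    · show ((X e6m1 K4.w * X e6m6 (K4.w ^ 2) : GL chevE6.Idx K4) : Matrix chevE6.Idx chevE6.Idx K4) * _ = _
      rw [hp, coeX _ (by decide), coeX _ (by decide)]
      exact letter7
    · show ((X e6p3 (1 : K4) * X e6p5 ((1 : K4) ^ 2) : GL chevE6.Idx K4) : Matrix chevE6.Idx chevE6.Idx K4) * _ = _
      rw [hp, coeX _ (by decide), coeX _ (by decide)]
      exact letter8
    · show ((X e6p3 K4.w * X e6p5 (K4.w ^ 2) : GL chevE6.Idx K4) : Matrix chevE6.Idx chevE6.Idx K4) * _ = _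
      rw [hp, coeX _ (by decide), coeX _ (by decide)]
      exact letter9
    · show ((X e6m3 (1 : K4) * X e6m5 ((1 : K4) ^ 2) : GL chevE6.Idx K4) : Matrix chevE6.Idx chevE6.Idx K4) * _ = _
      rw [hp, coeX _ (by decide), coeX _ (by decide)]
      exact letter10
    · show ((X e6m3 K4.w * X e6m5 (K4.w ^ 2) : GL chevE6.Idx K4) : Matrix chevE6.Idx chevE6.Idx K4) * _ = _
      rw [hp, coeX _ (by decide), coeX _ (by decide)]
      exact letter11
  · have e : Ls i = idB := List.getD_eq_default _ _ (by simp; omega)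
    rw [Yl_ge _ (by omega), e, toB_idB, map_one, map_one, Units.val_one, one_mul, mul_one]

/-- The map of `GL(78, 2)` into the matrices over `K4`. -/
noncomputable def Φ4 : GL (Fin 78) (ZMod 2) →* GL chevE6.Idx K4 :=
  (MulAut.conj Q4).toMonoidHom.comp (Tι i4)

theorem Φ4_Lu (i : ℕ) : Φ4 (Lu i) = Yl K4.w i := by
  show Q4 * Tι i4 (Lu i) * Q4⁻¹ = _
  rw [mul_inv_eq_iff_eq_mul]
  apply Units.ext
  exact (Yl_letter i).symm

theorem Φ4_inj : Function.Injective Φ4 := by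
  intro a b h
  apply Tι_inj i4
  have h1 : Q4 * Tι i4 a * Q4⁻¹ = Q4 * Tι i4 b * Q4⁻¹ := h
  exact mul_left_cancel (mul_right_cancel h1)

/-! ## The general field -/

section Main

variable {K : Type*} [Field K] (f : K4 →+* K)

theorem glM_Yl (i : ℕ) : glM chevE6 f (Yl K4.w i) = Yl (f K4.w) i := by
  by_cases h : i < 12
  · have s (r : ℕ) : glM chevE6 f (X r (1 : K4)) = X r (1 : K) := by
      rw [Fix.glM_xG TwE6.hF, map_one]
    have p (r r' : ℕ) (t : K4) : glM chevE6 f (X r t * X r' (t ^ 2)) = X r (f t) * X r' ((f t) ^ 2) := by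
      rw [map_mul, Fix.glM_xG TwE6.hF, Fix.glM_xG TwE6.hF, map_pow]
    have p1 (r r' : ℕ) : glM chevE6 f (X r (1 : K4) * X r' ((1 : K4) ^ 2)) = X r (1 : K) * X r' ((1 : K) ^ 2) := by
      rw [p, map_one]
    interval_cases i
    · exact s _
    · exact s _
    · exact s _
    · exact s _
    · exact p1 _ _
    · exact p _ _ _
    · exact p1 _ _
    · exact p _ _ _
    · exact p1 _ _
    · exact p _ _ _
    · exact p1 _ _
    · exact p _ _ _
  · rw [Yl_ge _ (by omega), Yl_ge _ (by omega), map_one]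

/-- The representation of `Fi₂₂`. -/
noncomputable def phi : Cfsg.Spor.Fi22 →* GL chevE6.Idx K :=
  (glM chevE6 f).comp (Φ4.comp rho2)

theorem phi_inj : Function.Injective (phi f) :=
  (glM_injective chevE6 f).comp (Φ4_inj.comp rho2_inj)

theorem phi_of (x : Cfsg.Spor.Fi22.Gen) : phi f (PresentedGroup.of x) = glM chevE6 f (Φ4 (Uu (idx (x, true)))) := by
  show glM chevE6 f (Φ4 (rho2 (PresentedGroup.of x))) = _
  rw [rho2_of]

theorem idx_lt (x : Cfsg.Spor.Fi22.Gen) : idx (x, true) < 9 := by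
  cases x <;> decide

theorem phi_of_mem (x : Cfsg.Spor.Fi22.Gen) : phi f (PresentedGroup.of x) ∈ twistedE6 K 2 := by
  rw [phi_of, Uu_word (idx_lt x)]
  generalize wA (idx (x, true)) = w
  induction w with
  | nil =>
    simp
  | cons a w ih =>
    rw [List.map_cons, List.prod_cons, map_mul, map_mul]
    refine Subgroup.mul_mem _ ?_ ih
    rw [Φ4_Lu, glM_Yl]
    exact Yl_mem _ _

theorem phi_mem (a : Cfsg.Spor.Fi22) : phi f a ∈ twistedE6 K 2 := by
  have h : (⊤ : Subgroup Cfsg.Spor.Fi22) ≤ (twistedE6 K 2).comap (phi f) := by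
    rw [← PresentedGroup.closure_range_of]
    rw [Subgroup.closure_le]
    rintro _ ⟨x, rfl⟩
    exact phi_of_mem f x
  exact h (Subgroup.mem_top a)

/-- The commutant of the representation. -/
theorem phi_cent (D : GL chevE6.Idx K)
    (hD : ∀ x, x ≠ Cfsg.Spor.Fi22.Gen.a → D * phi f (PresentedGroup.of x) = phi f (PresentedGroup.of x) * D)
    (y : GL chevE6.Idx K) : D * y = y * D := by
  let ι : ZMod 2 →+* K := f.comp i4
  let Qk : GL chevE6.Idx K := glM chevE6 f Q4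
  have hT : ∀ a : GL (Fin 78) (ZMod 2), glM chevE6 f (Φ4 a) = Qk * Tι ι a * Qk⁻¹ := by
    intro a
    have e : glM chevE6 f (Tι i4 a) = Tι ι a := by
      apply Units.ext
      ext i j
      rfl
    show glM chevE6 f (Q4 * Tι i4 a * Q4⁻¹) = _
    rw [map_mul, map_mul, map_inv, e]
  set C : GL chevE6.Idx K := Qk⁻¹ * D * Qk with hC
  have hCc : ∀ i, 1 ≤ i → i ≤ 8 → C * Tι ι (Uu i) = Tι ι (Uu i) * C := by
    have key : ∀ x, x ≠ Cfsg.Spor.Fi22.Gen.a → C * Tι ι (Uu (idx (x, true))) = Tι ι (Uu (idx (x, true))) * C := by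
      intro x hx
      have h1 := hD x hx
      rw [phi_of, hT] at h1
      rw [hC]
      have h2 : Qk⁻¹ * (D * (Qk * Tι ι (Uu (idx (x, true))) * Qk⁻¹)) * Qk = Qk⁻¹ * ((Qk * Tι ι (Uu (idx (x, true))) * Qk⁻¹) * D) * Qk := by
        rw [h1]
      calc Qk⁻¹ * D * Qk * Tι ι (Uu (idx (x, true))) = Qk⁻¹ * (D * (Qk * Tι ι (Uu (idx (x, true))) * Qk⁻¹)) * Qk := by group
        _ = Qk⁻¹ * ((Qk * Tι ι (Uu (idx (x, true))) * Qk⁻¹) * D) * Qk := h2
        _ = Tι ι (Uu (idx (x, true))) * (Qk⁻¹ * D * Qk) := by group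
    intro i h1 h8
    interval_cases i
    · exact key Cfsg.Spor.Fi22.Gen.b (by decide)
    · exact key Cfsg.Spor.Fi22.Gen.c (by decide)
    · exact key Cfsg.Spor.Fi22.Gen.d (by decide)
    · exact key Cfsg.Spor.Fi22.Gen.e (by decide)
    · exact key Cfsg.Spor.Fi22.Gen.f (by decide)
    · exact key Cfsg.Spor.Fi22.Gen.g (by decide)
    · exact key Cfsg.Spor.Fi22.Gen.h (by decide)
    · exact key Cfsg.Spor.Fi22.Gen.i (by decide)
  let D' : Matrix (Fin 78) (Fin 78) K := (reI K).symm (C : Matrix chevE6.Idx chevE6.Idx K)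
  have hD' : ∀ x, 1 ≤ x → x ≤ 8 → D' * ι.mapMatrix (toB (Ms x)) = ι.mapMatrix (toB (Ms x)) * D' := by
    intro x h1 h8
    apply (reI K).injective
    rw [map_mul, map_mul]
    have e : reI K D' = (C : Matrix chevE6.Idx chevE6.Idx K) := (reI K).apply_symm_apply _
    rw [e]
    exact congrArg (fun u : GL chevE6.Idx K => (u : Matrix chevE6.Idx chevE6.Idx K)) (hCc x h1 h8)
  obtain ⟨α, hα⟩ := scalar_of_comm ι D' hD'
  have hCv : (C : Matrix chevE6.Idx chevE6.Idx K) = α • 1 := by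
    have e : reI K D' = (C : Matrix chevE6.Idx chevE6.Idx K) := (reI K).apply_symm_apply _
    rw [← e, hα]
    ext i j
    show (α • (1 : Matrix (Fin 78) (Fin 78) K)) (e78.symm i) (e78.symm j) = _
    simp [Matrix.one_apply, Matrix.smul_apply]
  have hCcen : ∀ z : GL chevE6.Idx K, C * z = z * C := by
    intro z
    apply Units.ext
    show (C : Matrix chevE6.Idx chevE6.Idx K) * (z : Matrix chevE6.Idx chevE6.Idx K) = (z : Matrix chevE6.Idx chevE6.Idx K) * (C : Matrix chevE6.Idx chevE6.Idx K)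
    rw [hCv, Matrix.smul_mul, Matrix.mul_smul, one_mul, mul_one]
  have h1 := hCcen (Qk⁻¹ * y * Qk)
  have h2 : D = Qk * C * Qk⁻¹ := by
    rw [hC]
    group
  rw [h2]
  calc Qk * C * Qk⁻¹ * y = Qk * (C * (Qk⁻¹ * y * Qk)) * Qk⁻¹ := by group
    _ = Qk * ((Qk⁻¹ * y * Qk) * C) * Qk⁻¹ := by rw [h1]
    _ = y * (Qk * C * Qk⁻¹) := by group

end Main

end Cfsg.Agent.Lib.Tw2E6Fi22
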