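import Mathlib
import Cfsg.Agent.Lib.Tw2E6Fi22.Bridge

/-!
# Final steps: maps from `K4`, squares of automorphisms
-/

set_option autoImplicit false
set_option linter.unusedSectionVars false
set_option linter.unusedVariables false
set_option linter.unnecessarySeqFocus false

namespace Cfsg.Agent.Lib.Tw2E6Fi22

open Cfsg Cfsg.Lie Cfsg.Agent.Lib.F4Mat

section field

variable {F : Type*} [Field F] (ω : F)

/-- the map from `K4` -/
def fMap4 : K4 → F
  | K4.o => 0
  | K4.e => 1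
  | K4.w => ω
  | K4.v => ω + 1

variable (h2 : (2 : F) = 0) (hw : ω * ω = ω + 1)

include h2 hw

theorem fMap4_add (a b : K4) : fMap4 ω (a + b) = fMap4 ω a + fMap4 ω b := by
  cases a <;> cases b
  · show fMap4 ω K4.o = fMap4 ω K4.o + fMap4 ω K4.o; simp only [fMap4] <;> linear_combination (-0 - 0 * ω) * h2
  · show fMap4 ω K4.e = fMap4 ω K4.o + fMap4 ω K4.e; simp only [fMap4] <;> linear_combination (-0 - 0 * ω) * h2
  · show fMap4 ω K4.w = fMap4 ω K4.o + fMap4 ω K4.w; simp only [fMap4] <;> linear_combination (-0 - 0 * ω) * h2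
  · show fMap4 ω K4.v = fMap4 ω K4.o + fMap4 ω K4.v; simp only [fMap4] <;> linear_combination (-0 - 0 * ω) * h2
  · show fMap4 ω K4.e = fMap4 ω K4.e + fMap4 ω K4.o; simp only [fMap4] <;> linear_combination (-0 - 0 * ω) * h2
  · show fMap4 ω K4.o = fMap4 ω K4.e + fMap4 ω K4.e; simp only [fMap4] <;> linear_combination (-1 - 0 * ω) * h2
  · show fMap4 ω K4.v = fMap4 ω K4.e + fMap4 ω K4.w; simp only [fMap4] <;> linear_combination (-0 - 0 * ω) * h2
  · show fMap4 ω K4.w = fMap4 ω K4.e + fMap4 ω K4.v; simp only [fMap4] <;> linear_combination (-1 - 0 * ω) * h2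
  · show fMap4 ω K4.w = fMap4 ω K4.w + fMap4 ω K4.o; simp only [fMap4] <;> linear_combination (-0 - 0 * ω) * h2
  · show fMap4 ω K4.v = fMap4 ω K4.w + fMap4 ω K4.e; simp only [fMap4] <;> linear_combination (-0 - 0 * ω) * h2
  · show fMap4 ω K4.o = fMap4 ω K4.w + fMap4 ω K4.w; simp only [fMap4] <;> linear_combination (-0 - 1 * ω) * h2
  · show fMap4 ω K4.e = fMap4 ω K4.w + fMap4 ω K4.v; simp only [fMap4] <;> linear_combination (-0 - 1 * ω) * h2
  · show fMap4 ω K4.v = fMap4 ω K4.v + fMap4 ω K4.o; simp only [fMap4] <;> linear_combination (-0 - 0 * ω) * h2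
  · show fMap4 ω K4.w = fMap4 ω K4.v + fMap4 ω K4.e; simp only [fMap4] <;> linear_combination (-1 - 0 * ω) * h2
  · show fMap4 ω K4.e = fMap4 ω K4.v + fMap4 ω K4.w; simp only [fMap4] <;> linear_combination (-0 - 1 * ω) * h2
  · show fMap4 ω K4.o = fMap4 ω K4.v + fMap4 ω K4.v; simp only [fMap4] <;> linear_combination (-1 - 1 * ω) * h2

theorem fMap4_mul (a b : K4) : fMap4 ω (a * b) = fMap4 ω a * fMap4 ω b := by
  cases a <;> cases b
  · show fMap4 ω K4.o = fMap4 ω K4.o * fMap4 ω K4.o; simp only [fMap4] <;> linear_combination (-0 - 0 * ω) * h2 - 0 * hw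
  · show fMap4 ω K4.o = fMap4 ω K4.o * fMap4 ω K4.e; simp only [fMap4] <;> linear_combination (-0 - 0 * ω) * h2 - 0 * hw
  · show fMap4 ω K4.o = fMap4 ω K4.o * fMap4 ω K4.w; simp only [fMap4] <;> linear_combination (-0 - 0 * ω) * h2 - 0 * hw
  · show fMap4 ω K4.o = fMap4 ω K4.o * fMap4 ω K4.v; simp only [fMap4] <;> linear_combination (-0 - 0 * ω) * h2 - 0 * hw
  · show fMap4 ω K4.o = fMap4 ω K4.e * fMap4 ω K4.o; simp only [fMap4] <;> linear_combination (-0 - 0 * ω) * h2 - 0 * hw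
  · show fMap4 ω K4.e = fMap4 ω K4.e * fMap4 ω K4.e; simp only [fMap4] <;> linear_combination (-0 - 0 * ω) * h2 - 0 * hw
  · show fMap4 ω K4.w = fMap4 ω K4.e * fMap4 ω K4.w; simp only [fMap4] <;> linear_combination (-0 - 0 * ω) * h2 - 0 * hw
  · show fMap4 ω K4.v = fMap4 ω K4.e * fMap4 ω K4.v; simp only [fMap4] <;> linear_combination (-0 - 0 * ω) * h2 - 0 * hw
  · show fMap4 ω K4.o = fMap4 ω K4.w * fMap4 ω K4.o; simp only [fMap4] <;> linear_combination (-0 - 0 * ω) * h2 - 0 * hw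
  · show fMap4 ω K4.w = fMap4 ω K4.w * fMap4 ω K4.e; simp only [fMap4] <;> linear_combination (-0 - 0 * ω) * h2 - 0 * hw
  · show fMap4 ω K4.v = fMap4 ω K4.w * fMap4 ω K4.w; simp only [fMap4] <;> linear_combination (-0 - 0 * ω) * h2 - 1 * hw
  · show fMap4 ω K4.e = fMap4 ω K4.w * fMap4 ω K4.v; simp only [fMap4] <;> linear_combination (-0 - 1 * ω) * h2 - 1 * hw
  · show fMap4 ω K4.o = fMap4 ω K4.v * fMap4 ω K4.o; simp only [fMap4] <;> linear_combination (-0 - 0 * ω) * h2 - 0 * hw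
  · show fMap4 ω K4.v = fMap4 ω K4.v * fMap4 ω K4.e; simp only [fMap4] <;> linear_combination (-0 - 0 * ω) * h2 - 0 * hw
  · show fMap4 ω K4.e = fMap4 ω K4.v * fMap4 ω K4.w; simp only [fMap4] <;> linear_combination (-0 - 1 * ω) * h2 - 1 * hw
  · show fMap4 ω K4.w = fMap4 ω K4.v * fMap4 ω K4.v; simp only [fMap4] <;> linear_combination (-1 - 1 * ω) * h2 - 1 * hw

/-- the ring hom from `K4` -/
def fHom4 : K4 →+* F where
  toFun := fMap4 ω
  map_one' := rfl
  map_zero' := rfl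
  map_add' := fMap4_add ω h2 hw
  map_mul' := fMap4_mul ω h2 hw

end field

/-- A field with four elements receives a map from `K4`. -/
theorem exists_fhom {K : Type*} [Field K] [Fintype K] (hK : Fintype.card K = 4) : Nonempty (K4 →+* K) := by
  classical
  have h4 : (4 : K) = 0 := by
    have h := Nat.cast_card_eq_zero K
    rw [hK] at h
    exact_mod_cast h
  have h2 : (2 : K) = 0 := by
    have h : (2 : K) ^ 2 = 0 := by
      rw [← h4]
      norm_num
    exact pow_eq_zero_iff (two_ne_zero) |>.1 h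
  have hcard : Fintype.card Kˣ = 3 := by
    rw [Fintype.card_units, hK]
  have hcube : ∀ a : Kˣ, a ^ 3 = 1 := fun a => by
    rw [← hcard]
    exact pow_card_eq_one
  obtain ⟨ω, hω⟩ : ∃ ω : Kˣ, ω ≠ 1 := by
    have : Nontrivial Kˣ := Fintype.one_lt_card_iff_nontrivial.1 (by rw [hcard]; norm_num)
    exact exists_ne 1
  have h3 : ((ω : K)) ^ 3 = 1 := by
    have := congrArg (fun u : Kˣ => (u : K)) (hcube ω)
    simpa using this
  have hne : (ω : K) - 1 ≠ 0 := by
    intro h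
    apply hω
    apply Units.ext
    simpa [sub_eq_zero] using h
  have hw0 : (ω : K) ^ 2 + ω + 1 = 0 := by
    apply (mul_eq_zero.1 (?_ : ((ω : K) - 1) * ((ω : K) ^ 2 + ω + 1) = 0)).resolve_left hne
    linear_combination h3
  have hw : (ω : K) * ω = ω + 1 := by
    linear_combination hw0 - ((ω : K) + 1) * h2
  exact ⟨fHom4 (ω : K) h2 hw⟩

/-- The squares of automorphisms are inner, if the outer automorphism group has order two. -/
theorem out_sq {G : Type*} [Group G] (h : Nat.card (Out G) = 2) (θ : MulAut G) : ∃ a : G, ∀ x, θ (θ x) = a * x * a⁻¹ := by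
  have h1 : ((θ : MulAut G) : Out G) ^ 2 = 1 := by
    rw [← h]
    exact pow_card_eq_one'
  have h2 : ((θ ^ 2 : MulAut G) : Out G) = 1 := by
    rw [QuotientGroup.mk_pow]
    exact h1
  rw [QuotientGroup.eq_one_iff] at h2
  obtain ⟨a, ha⟩ := h2
  refine ⟨a, fun x => ?_⟩
  have h3 := congrArg (fun β : MulAut G => β x) ha
  have e : (θ ^ 2) x = θ (θ x) := rfl
  rw [← e, ← h3]
  rfl

/-- Transport along an isomorphism. -/
theorem out_sq_congr {G P : Type*} [Group G] [Group P] (e : G ≃* P)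
    (h : ∀ θ : MulAut P, ∃ a : P, ∀ x, θ (θ x) = a * x * a⁻¹) (θ : MulAut G) :
    ∃ a : G, ∀ x, θ (θ x) = a * x * a⁻¹ := by
  obtain ⟨b, hb⟩ := h (e.symm.trans (θ.trans e))
  refine ⟨e.symm b, fun x => ?_⟩
  have h1 := hb (e x)
  have h2 : (e.symm.trans (θ.trans e)) ((e.symm.trans (θ.trans e)) (e x)) = e (θ (θ x)) := by
    simp
  rw [h2] at h1
  apply e.injective
  rw [h1, map_mul, map_mul, map_inv, MulEquiv.apply_symm_apply]

end Cfsg.Agent.Lib.Tw2E6Fi22
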