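import Mathlib
import Cfsg.Agent.Lib.F4Mat
import Cfsg.Agent.Lib.OutTree36
import Cfsg.Prelude.Def_ChevE6

/-!
# Matrices over `𝔽₂` with rows in one number, fast in the kernel; matrices over `𝔽₄` as two planes

The coordinates of `chevE6.Idx` as `Fin 78`, and the kernel check comparing the matrices `x_r(t)` with two tables.
-/

set_option autoImplicit false
set_option linter.unusedSectionVars false
set_option linter.unusedVariables false

namespace Cfsg.Agent.Lib.Tw2E6Fi22

open Matrix Cfsg.Lie Cfsg.Agent.Lib.F4Mat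

/-! ## Rows -/

/-- Continuation with a number which the kernel evaluates first. -/
noncomputable def frc {α : Sort*} (x : ℕ) (k : ℕ → α) : α := Nat.rec (k 0) (fun n _ => k (Nat.succ n)) x

theorem frc_eq {α : Sort*} (x : ℕ) (k : ℕ → α) : frc x k = k x := by
  cases x <;> rfl

/-- The bit `j` of a row. -/
def cbit (n j : ℕ) : ZMod 2 := if n.testBit j then 1 else 0

theorem cbit_xor (a b j : ℕ) : cbit (a ^^^ b) j = cbit a j + cbit b j := by
  unfold cbit
  rw [Nat.testBit_xor]
  cases a.testBit j <;> cases b.testBit j <;> decide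

theorem cbit_zero (j : ℕ) : cbit 0 j = 0 := by
  simp [cbit]

/-- The combination of the rows `Bs` with the bits of `v` as coefficients. -/
noncomputable def comb2 (v : ℕ) (Bs : List ℕ) : ℕ :=
  List.rec (motive := fun _ => ℕ → ℕ) (fun _ => 0)
    (fun b _ ih v => Nat.xor (Nat.mul (Nat.land v 1) b) (frc (Nat.shiftRight v 1) ih)) Bs v

theorem comb2_cons (v b : ℕ) (Bs : List ℕ) :
    comb2 v (b :: Bs) = (v &&& 1) * b ^^^ comb2 (v >>> 1) Bs := by
  show Nat.xor (Nat.mul (Nat.land v 1) b) (frc (Nat.shiftRight v 1) _) = _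
  rw [frc_eq]
  rfl

theorem comb2_zero (Bs : List ℕ) : comb2 0 Bs = 0 := by
  induction Bs with
  | nil => rfl
  | cons b Bs ih =>
    rw [comb2_cons]
    simp [ih]

theorem cbit_land_mul (v b j : ℕ) : cbit ((v &&& 1) * b) j = cbit v 0 * cbit b j := by
  rw [Nat.and_one_is_mod]
  rcases Nat.mod_two_eq_zero_or_one v with h | h
  · have h0 : v.testBit 0 = false := by
      rw [Nat.testBit_zero]
      simp [h]
    rw [h]
    simp [cbit, h0]
  · have h0 : v.testBit 0 = true := by
      rw [Nat.testBit_zero]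
      simp [h]
    rw [h]
    simp [cbit, h0]

theorem cbit_shift (v l : ℕ) : cbit (v >>> 1) l = cbit v (l + 1) := by
  unfold cbit
  rw [Nat.testBit_shiftRight, add_comm]

theorem cbit_comb2 (j : ℕ) : ∀ (Bs : List ℕ) (v : ℕ),
    cbit (comb2 v Bs) j = ∑ l ∈ Finset.range Bs.length, cbit v l * cbit (Bs.getD l 0) j
  | [], v => by
    show cbit 0 j = _
    simp [cbit_zero]
  | b :: Bs, v => by
    rw [comb2_cons, cbit_xor, cbit_land_mul, cbit_comb2 j Bs, List.length_cons, Finset.sum_range_succ', add_comm]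
    simp only [cbit_shift, List.getD_cons_zero, List.getD_cons_succ]

/-- The product of two matrices. -/
noncomputable def mmul2 (A Bs : List ℕ) : List ℕ :=
  List.rec (motive := fun _ => List ℕ) [] (fun r _ ih => frc (comb2 r Bs) (fun y => List.cons y ih)) A

theorem mmul2_cons (r : ℕ) (A Bs : List ℕ) : mmul2 (r :: A) Bs = comb2 r Bs :: mmul2 A Bs := by
  exact frc_eq (comb2 r Bs) (fun y => List.cons y (mmul2 A Bs))

theorem mmul2_getD (Bs : List ℕ) : ∀ (A : List ℕ) (i : ℕ), (mmul2 A Bs).getD i 0 = comb2 (A.getD i 0) Bs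
  | [], i => by
    show ([] : List ℕ).getD i 0 = _
    simp [comb2_zero]
  | r :: A, 0 => by
    rw [mmul2_cons]
    rfl
  | r :: A, i + 1 => by
    rw [mmul2_cons]
    simp only [List.getD_cons_succ]
    exact mmul2_getD Bs A i

theorem mmul2_length (Bs : List ℕ) : ∀ (A : List ℕ), (mmul2 A Bs).length = A.length
  | [] => rfl
  | r :: A => by
    rw [mmul2_cons, List.length_cons, List.length_cons, mmul2_length Bs A]

/-- The matrix of a table. -/
def toB (A : List ℕ) : Matrix (Fin 78) (Fin 78) (ZMod 2) := fun i j => cbit (A.getD i 0) j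

theorem toB_mmul2 (A : List ℕ) {Bs : List ℕ} (hB : Bs.length = 78) : toB (mmul2 A Bs) = toB A * toB Bs := by
  ext i j
  rw [Matrix.mul_apply]
  show cbit ((mmul2 A Bs).getD i 0) j = ∑ l : Fin 78, cbit (A.getD i 0) l * cbit (Bs.getD l 0) j
  rw [mmul2_getD, cbit_comb2, hB, Finset.sum_range (fun l => cbit (A.getD i 0) l * cbit (Bs.getD l 0) j)]

/-- A word of tables. -/
noncomputable def evB (Ms : ℕ → List ℕ) (w : List ℕ) (acc : List ℕ) : List ℕ :=
  List.rec (motive := fun _ => List ℕ → List ℕ) (fun acc => acc)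
    (fun x _ ih acc => ih (mmul2 acc (Ms x))) w acc

theorem evB_spec {Ms : ℕ → List ℕ} (hMs : ∀ i, (Ms i).length = 78) : ∀ (w : List ℕ) (acc : List ℕ),
    toB (evB Ms w acc) = toB acc * (w.map fun i => toB (Ms i)).prod
  | [], acc => by simp [evB]
  | x :: w, acc => by
    have e : evB Ms (x :: w) acc = evB Ms w (mmul2 acc (Ms x)) := rfl
    rw [e, evB_spec hMs w, toB_mmul2 _ (hMs x), List.map_cons, List.prod_cons, mul_assoc]

/-- The identity. -/
def idB : List ℕ := (List.range 78).map fun i => 2 ^ i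

theorem idB_length : idB.length = 78 := by simp [idB]

theorem toB_idB : toB idB = 1 := by
  ext i j
  show cbit (idB.getD i 0) j = _
  have hi : (i : ℕ) < idB.length := by rw [idB_length]; exact i.2
  have e : idB.getD i 0 = 2 ^ (i : ℕ) := by
    rw [List.getD_eq_getElem _ _ hi]
    simp [idB]
  rw [e, Matrix.one_apply]
  unfold cbit
  rw [Nat.testBit_two_pow]
  by_cases h : i = j
  · subst h
    simp
  · have h' : (i : ℕ) ≠ j := fun e => h (Fin.ext e)
    simp [h, h']

/-! ## Addition -/

/-- The sum of two tables. -/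
noncomputable def addB (A B : List ℕ) : List ℕ :=
  List.rec (motive := fun _ => List ℕ → List ℕ) (fun _ => [])
    (fun a _ ih B => List.rec (motive := fun _ => List ℕ) [] (fun b B' _ => frc (Nat.xor a b) (fun y => List.cons y (ih B'))) B) A B

theorem addB_cons (a b : ℕ) (A B : List ℕ) : addB (a :: A) (b :: B) = (a ^^^ b) :: addB A B := by
  exact frc_eq (Nat.xor a b) (fun y => List.cons y (addB A B))

theorem addB_getD : ∀ (A B : List ℕ) (i : ℕ), A.length = B.length → (addB A B).getD i 0 = A.getD i 0 ^^^ B.getD i 0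
  | [], [], i, _ => by
    show ([] : List ℕ).getD i 0 = _
    simp
  | [], _ :: _, _, h => by simp at h
  | _ :: _, [], _, h => by simp at h
  | a :: A, b :: B, 0, h => by
    rw [addB_cons]
    rfl
  | a :: A, b :: B, i + 1, h => by
    rw [addB_cons]
    simp only [List.getD_cons_succ]
    exact addB_getD A B i (by simpa using h)

theorem addB_length : ∀ (A B : List ℕ), A.length = B.length → (addB A B).length = A.length
  | [], [], _ => rfl
  | [], _ :: _, h => by simp at h
  | _ :: _, [], h => by simp at h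
  | a :: A, b :: B, h => by
    rw [addB_cons, List.length_cons, List.length_cons, addB_length A B (by simpa using h)]

theorem toB_addB {A B : List ℕ} (h : A.length = B.length) : toB (addB A B) = toB A + toB B := by
  ext i j
  show cbit ((addB A B).getD i 0) j = cbit (A.getD i 0) j + cbit (B.getD i 0) j
  rw [addB_getD A B i h, cbit_xor]

/-! ## The planes -/

theorem charK4 : CharP K4 2 := CharTwo.of_one_ne_zero_of_two_eq_zero one_ne_zero K4.two_eq_zero

/-- The prime field in `K4`. -/
noncomputable def i4 : ZMod 2 →+* K4 := @ZMod.castHom 2 2 (dvd_refl 2) K4 _ charK4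

/-- A matrix over `K4` from two planes. -/
noncomputable def M2 (a b : Matrix (Fin 78) (Fin 78) (ZMod 2)) : Matrix (Fin 78) (Fin 78) K4 :=
  i4.mapMatrix a + K4.w • i4.mapMatrix b

theorem M2_mul (a b c d : Matrix (Fin 78) (Fin 78) (ZMod 2)) :
    M2 a b * M2 c d = M2 (a * c + b * d) (a * d + b * c + b * d) := by
  unfold M2
  simp only [map_add, map_mul, add_mul, mul_add, smul_mul_assoc, mul_smul_comm, smul_add, smul_smul]
  have e : K4.w * K4.w = K4.w + 1 := rfl
  rw [e, add_smul, one_smul]
  abel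

/-- The valid pairs of tables. -/
def VP (A : List ℕ × List ℕ) : Prop := A.1.length = 78 ∧ A.2.length = 78

/-- The matrix of a pair of tables. -/
noncomputable def toP (A : List ℕ × List ℕ) : Matrix (Fin 78) (Fin 78) K4 := M2 (toB A.1) (toB A.2)

/-- The product of a pair of tables. -/
noncomputable def pmul (A B : List ℕ × List ℕ) : List ℕ × List ℕ :=
  (addB (mmul2 A.1 B.1) (mmul2 A.2 B.2),
    addB (addB (mmul2 A.1 B.2) (mmul2 A.2 B.1)) (mmul2 A.2 B.2))

theorem vp_pmul {A B : List ℕ × List ℕ} (hA : VP A) (hB : VP B) : VP (pmul A B) := by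
  have l (X Y : List ℕ) (hX : X.length = 78) : (mmul2 X Y).length = 78 := by rw [mmul2_length, hX]
  have h1 := l _ B.1 hA.1
  have h2 := l _ B.2 hA.2
  have h3 := l _ B.2 hA.1
  have h4 := l _ B.1 hA.2
  constructor
  · show (addB _ _).length = 78
    rw [addB_length _ _ (by rw [h1, h2]), h1]
  · show (addB _ _).length = 78
    have h5 : (addB (mmul2 A.1 B.2) (mmul2 A.2 B.1)).length = 78 := by
      rw [addB_length _ _ (by rw [h3, h4]), h3]
    rw [addB_length _ _ (by rw [h5, h2]), h5]

theorem toP_pmul {A B : List ℕ × List ℕ} (hA : VP A) (hB : VP B) : toP (pmul A B) = toP A * toP B := by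
  have l (X Y : List ℕ) (hX : X.length = 78) : (mmul2 X Y).length = 78 := by rw [mmul2_length, hX]
  have h1 := l _ B.1 hA.1
  have h2 := l _ B.2 hA.2
  have h3 := l _ B.2 hA.1
  have h4 := l _ B.1 hA.2
  have h5 : (addB (mmul2 A.1 B.2) (mmul2 A.2 B.1)).length = 78 := by
    rw [addB_length _ _ (by rw [h3, h4]), h3]
  unfold toP
  rw [M2_mul]
  simp only [pmul]
  rw [toB_addB (by rw [h1, h2]), toB_addB (by rw [h5, h2]), toB_addB (by rw [h3, h4]),
    toB_mmul2 _ hB.1, toB_mmul2 _ hB.1, toB_mmul2 _ hB.2, toB_mmul2 _ hB.2]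

/-- The zero table. -/
def zL : List ℕ := List.replicate 78 0

theorem zL_length : zL.length = 78 := rfl

theorem toB_zL : toB zL = 0 := by
  ext i j
  show cbit (zL.getD i 0) j = 0
  have h : zL.getD i 0 = 0 := by
    have hi : (i : ℕ) < zL.length := i.2
    rw [List.getD_eq_getElem _ _ hi]
    exact List.eq_of_mem_replicate (List.getElem_mem hi)
  rw [h, cbit_zero]

theorem toP_zero (L : List ℕ) : toP (L, zL) = i4.mapMatrix (toB L) := by
  unfold toP M2
  simp only [toB_zL, map_zero, smul_zero, add_zero]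

/-! ## The index set -/

theorem rank_eq : chevE6.rank = 6 := rfl
theorem nroots_eq : chevE6.nroots = 72 := rfl

/-- Numbers as indices. -/
def inI (i : ℕ) : chevE6.Idx :=
  if h : i < 6 then Sum.inl ⟨i, h⟩ else if h2 : i - 6 < 72 then Sum.inr ⟨i - 6, h2⟩ else Sum.inl ⟨0, by decide⟩

/-- The index set as `Fin 78`. -/
def e78 : Fin 78 ≃ chevE6.Idx where
  toFun i := inI i.1
  invFun x := match x with
    | Sum.inl a => ⟨a.1, by have := a.2; have h : a.1 < 6 := this; omega⟩
    | Sum.inr b => ⟨b.1 + 6, by have := b.2; have h : b.1 < 72 := this; omega⟩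
  left_inv i := by
    have h78 := i.2
    by_cases h : i.1 < 6
    · simp [inI, h]
    · have h2 : i.1 - 6 < 72 := by omega
      apply Fin.ext
      simp only [inI, h, dif_neg, not_false_eq_true, h2, dif_pos]
      omega
  right_inv x := by
    rcases x with a | b
    · have h : a.1 < 6 := a.2
      simp [inI, h]
    · have h : b.1 < 72 := b.2
      have h2 : ¬ (b.1 + 6 < 6) := by omega
      simp [inI, h]

/-- The change of the index set. -/
noncomputable def reI (F : Type*) [Semiring F] : Matrix (Fin 78) (Fin 78) F ≃+* Matrix chevE6.Idx chevE6.Idx F where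
  toFun M := M.submatrix e78.symm e78.symm
  invFun M := M.submatrix e78 e78
  left_inv M := by ext i j; simp
  right_inv M := by ext i j; simp
  map_add' A B := by ext i j; simp
  map_mul' A B := by
    ext i j
    simp only [Matrix.mul_apply, Matrix.submatrix_apply]
    exact (Equiv.sum_comp e78.symm _).symm

theorem reI_apply (F : Type*) [Semiring F] (M : Matrix (Fin 78) (Fin 78) F) (i j : Fin 78) :
    reI F M (e78 i) (e78 j) = M i j := by
  show M (e78.symm (e78 i)) (e78.symm (e78 j)) = _
  simp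

/-! ## The kernel check of a matrix `x_r(t)` -/

/-- A bit in `K4`. -/
def pl (b : Bool) : K4 := if b then 1 else 0

theorem i4_cbit (n j : ℕ) : i4 (cbit n j) = pl (n.testBit j) := by
  unfold pl cbit
  split_ifs <;> simp

theorem toP_apply (A : List ℕ × List ℕ) (i j : Fin 78) :
    toP A i j = pl ((A.1.getD i 0).testBit j) + K4.w * pl ((A.2.getD i 0).testBit j) := by
  unfold toP M2
  rw [Matrix.add_apply, Matrix.smul_apply, smul_eq_mul]
  simp only [RingHom.mapMatrix_apply, Matrix.map_apply]
  show i4 (cbit (A.1.getD i 0) j) + K4.w * i4 (cbit (A.2.getD i 0) j) = _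
  rw [i4_cbit, i4_cbit]

/-- The check of a table for the matrix `x_r(t)`. -/
noncomputable def xOK (r : Fin chevE6.nroots) (t : K4) (A : List ℕ × List ℕ) : Bool :=
  Cfsg.Agent.Lib.OutTree36.allN 78 (fun i => Cfsg.Agent.Lib.OutTree36.allN 78 (fun j =>
    decide (chevE6.xMat K4 r t (inI i) (inI j) = pl ((A.1.getD i 0).testBit j) + K4.w * pl ((A.2.getD i 0).testBit j))))

theorem xMat_of_xOK {r : Fin chevE6.nroots} {t : K4} {A : List ℕ × List ℕ} (h : xOK r t A = true) :
    chevE6.xMat K4 r t = reI K4 (toP A) := by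
  ext row col
  obtain ⟨i, rfl⟩ := e78.surjective row
  obtain ⟨j, rfl⟩ := e78.surjective col
  rw [reI_apply, toP_apply]
  have h1 := Cfsg.Agent.Lib.OutTree36.allN_spec h i.2
  have h2 := Cfsg.Agent.Lib.OutTree36.allN_spec h1 j.2
  exact of_decide_eq_true h2

/-- **A letter of two root elements.** -/
theorem letter_pair {r r' : Fin chevE6.nroots} {t t' : K4} {A B Q : List ℕ × List ℕ} {L : List ℕ}
    (hA : xOK r t A = true) (hB : xOK r' t' B = true)
    (hVA : VP A) (hVB : VP B) (hVQ : VP Q) (hVL : L.length = 78)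
    (hc : pmul (pmul A B) Q = pmul Q (L, zL)) :
    chevE6.xMat K4 r t * chevE6.xMat K4 r' t' * reI K4 (toP Q) = reI K4 (toP Q) * reI K4 (i4.mapMatrix (toB L)) := by
  have vL : VP (L, zL) := ⟨hVL, rfl⟩
  rw [xMat_of_xOK hA, xMat_of_xOK hB, ← map_mul, ← map_mul, ← map_mul, ← toP_zero,
    ← toP_pmul hVA hVB, ← toP_pmul (vp_pmul hVA hVB) hVQ, ← toP_pmul hVQ vL, hc]

/-- **A letter of one root element.** -/
theorem letter_single {r : Fin chevE6.nroots} {t : K4} {A Q : List ℕ × List ℕ} {L : List ℕ}
    (hA : xOK r t A = true)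
    (hVA : VP A) (hVQ : VP Q) (hVL : L.length = 78)
    (hc : pmul A Q = pmul Q (L, zL)) :
    chevE6.xMat K4 r t * reI K4 (toP Q) = reI K4 (toP Q) * reI K4 (i4.mapMatrix (toB L)) := by
  have vL : VP (L, zL) := ⟨hVL, rfl⟩
  rw [xMat_of_xOK hA, ← map_mul, ← map_mul, ← toP_zero, ← toP_pmul hVA hVQ, ← toP_pmul hVQ vL, hc]

end Cfsg.Agent.Lib.Tw2E6Fi22
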